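/-
Certificates bounding the automorphisms of a vector stabiliser in the automorphism group of the
Leech lattice: definitions of the checks.
-/
import Cfsg.Agent.Leech.Co3MultVec

set_option autoImplicit false

namespace CfsgLib.LeechOut

open CfsgLib.Leech CfsgLib.Leech.Co3Mult CfsgLib.Golay

/-- A table in three levels of twenty. -/
abbrev Tab := List (List (List ℕ))

/-- An entry of a table. -/
def tb (T : Tab) (i : ℕ) : ℕ := ((T.getD (i / 400) []).getD (i / 20 % 20) []).getD (i % 20) 0

/-- Image of a point under a word in tables. -/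
def evW (G : List Tab) : List ℕ → ℕ → ℕ
  | [], x => x
  | g :: r, x => tb (G.getD g []) (evW G r x)

/-- A word repeated. -/
def repW (w : List ℕ) : ℕ → List ℕ
  | 0 => []
  | m + 1 => w ++ repW w m

/-- Image of a point under a power of a table. -/
def itT (T : Tab) : ℕ → ℕ → ℕ
  | 0, x => x
  | n + 1, x => tb T (itT T n x)

/-- The middle field of a product of packed vectors. -/
def midP (x y : ℕ) : ℕ := x * y / 65536 ^ 23 % 65536

/-- Substitution of letters. -/
def substW (e : ℕ) (k : List ℕ) : List ℕ → List ℕ
  | [] => []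
  | g :: r => (bif Nat.beq g 0 then List.replicate e 0 else k) ++ substW e k r

/-- A combination of packed vectors at one index. -/
def lcAt (t : ℕ) : List ℤ → List ℕ → ℤ
  | c :: cs, x :: xs => c * ((fld x t : ℤ) - 8) + lcAt t cs xs
  | _, _ => 0

/-- An orbit listed with parents. -/
structure Lev where
  pt : ℕ
  len : ℕ
  orb : Tab
  par : Tab
  gen : Tab
  pos : Tab
  words : List (List ℕ)
  tabs : List Tab

/-- Spanning data: base points, chosen (base, power) pairs, rows and tests. -/
structure Span where
  base : List ℕ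
  sel : List (ℕ × ℕ)
  D : ℕ
  rows : List (List ℤ)
  tests : List (List ℤ × ℕ × ℕ)

/-- A certificate. -/
structure OCert where
  fx : List ℕ
  N : ℕ
  p : ℕ
  q : ℕ
  k : ℕ
  kinv : ℕ
  u : ℕ
  s : ℕ
  mats : List (List ℕ)
  invs : List (List ℕ)
  np : ℕ
  pts : Tab
  revs : Tab
  sums : Tab
  perms : List Tab
  spanA : Span
  spanY : Span
  known : List (List ℕ)
  zi : ℕ
  surv : List ℕ
  levels : List Lev
  verdOne : List (List ℕ × ℕ × ℕ)
  verdNeg : List (List ℕ × ℕ × ℕ)

variable (C : OCert)

/-- A point. -/
def OCert.pt (i : ℕ) : ℕ := tb C.pts i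

/-- The matrices preserve the lattice and fix the vectors. -/
def OCert.matsOk : Bool :=
  Nat.beq C.mats.length 4 && (List.range 4).all fun g =>
    matOk (C.mats.getD g []) (C.invs.getD g []) && C.fx.all fun f =>
      wf f && apOk (C.mats.getD g []) f && Nat.beq (ap (C.mats.getD g []) f) f

/-- The points are increasing lattice vectors with their companions. -/
def OCert.ptsOk : Bool :=
  (List.range C.np).all fun i =>
    wf (C.pt i) && inLeech (Val (C.pt i)) &&
      Nat.beq (tb C.revs i) (pkN 24 fun t => fld (C.pt i) (23 - t)) &&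
      Nat.beq (tb C.sums i) (fldSum (C.pt i) 24) &&
      (Nat.beq (i + 1) C.np || Nat.blt (C.pt i) (C.pt (i + 1)))

/-- A table describes the action of a matrix. -/
def OCert.permOk (g : ℕ) : Bool :=
  (List.range C.np).all fun i =>
    let j := tb (C.perms.getD g []) i
    Nat.blt j C.np && apOk (C.mats.getD g []) (C.pt i) &&
      Nat.beq (ap (C.mats.getD g []) (C.pt i)) (C.pt j)

/-- Equality of two inner products of points. -/
def OCert.dotEq (a b c d : ℕ) : Bool :=
  Nat.beq (midP (C.pt a) (tb C.revs b) + 8 * (tb C.sums c + tb C.sums d))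
    (midP (C.pt c) (tb C.revs d) + 8 * (tb C.sums a + tb C.sums b))

/-- The generators of a centraliser search. -/
def OCert.okI (g h : Tab) (ord r x : ℕ) (prev : List (ℕ × ℕ)) : Bool :=
  prev.all fun uv => (List.range ord).all fun i => C.dotEq (itT g i uv.1) r (itT h i uv.2) x

/-- Possible images of the base points. -/
def OCert.enumI (g h : Tab) (ord : ℕ) : List ℕ → List (List ℕ)
  | [] => [[]]
  | r :: S => (OCert.enumI g h ord S).flatMap fun cs =>
      ((List.range C.np).filter fun x => C.okI g h ord r x ((r, x) :: S.zip cs)).map (· :: cs)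

/-- The vectors spanned by, after the images `im` of the base points. -/
def OCert.vecs (S : Span) (T : Tab) (im : List ℕ) : List ℕ :=
  C.fx ++ S.sel.map fun li => C.pt (itT T li.2 (im.getD li.1 0))

/-- The spanning data are correct. -/
def OCert.spanOk (S : Span) (g ord : ℕ) : Bool :=
  !(Nat.beq S.D 0) && S.base.all (fun r => Nat.blt r C.np) &&
  S.sel.all (fun li => Nat.blt li.1 S.base.length && Nat.blt li.2 ord) &&
  Nat.beq S.rows.length 24 &&
  (List.range 24).all (fun j => (List.range 24).all fun t =>
    lcAt t (S.rows.getD j []) (C.vecs S (C.perms.getD g []) S.base) == (S.D : ℤ) * ((fld (e8 j) t : ℤ) - 8)) &&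
  S.tests.all fun T => inLeech (Val T.2.1) && inLeech (Val T.2.2) && (List.range 24).all fun t =>
    lcAt t T.1 (C.vecs S (C.perms.getD g []) S.base) == (S.D : ℤ) * ((fld T.2.1 t : ℤ) - 8)

/-- A tuple of images that no element realises. -/
def OCert.killed (S : Span) (h : Tab) (im : List ℕ) : Bool :=
  S.tests.any fun T =>
    !((((List.range 24).map fun t => lcAt t T.1 (C.vecs S h im) * ((fld T.2.2 t : ℤ) - 8)).sum) %
      (8 * (S.D : ℤ)) == 0)

/-- Two words agree. -/
def OCert.eqW (w v : List ℕ) : Bool :=
  w.all (fun g => Nat.blt g 4) && v.all (fun g => Nat.blt g 4) &&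
  C.spanA.sel.all fun li =>
    let x := itT (C.perms.getD 0 []) li.2 (C.spanA.base.getD li.1 0)
    Nat.beq (evW C.perms w x) (evW C.perms v x)

/-- Every element intertwining two generators is listed. -/
def OCert.searchOk (S : Span) (g h ord : ℕ) (known : List (List ℕ)) : Bool :=
  C.spanOk S g ord && known.all (fun w => w.all fun x => Nat.blt x 4) &&
  (C.enumI (C.perms.getD g []) (C.perms.getD h []) ord S.base).all fun im =>
    C.killed S (C.perms.getD h []) im || known.any fun w => im == S.base.map (evW C.perms w)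

/-- A level of the chain. -/
def OCert.levOne (G : List Tab) (L : Lev) : Bool :=
  Nat.blt 0 L.len && Nat.beq (tb L.orb 0) L.pt && Nat.blt L.pt C.np &&
  Nat.beq L.words.length L.tabs.length &&
  (List.range L.len).all (fun k =>
    Nat.beq (tb L.pos (tb L.orb k)) k && (Nat.beq k 0 ||
      (Nat.blt (tb L.par k) k && Nat.blt (tb L.gen k) G.length &&
        Nat.beq (tb L.orb k) (tb (G.getD (tb L.gen k) []) (tb L.orb (tb L.par k)))))) &&
  (List.range L.tabs.length).all fun n =>
    (L.words.getD n []).all (fun g => Nat.blt g G.length) &&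
    Nat.beq (tb (L.tabs.getD n []) L.pt) L.pt &&
    (List.range C.np).all fun i => Nat.beq (evW G (L.words.getD n []) i) (tb (L.tabs.getD n []) i)

/-- The chain. -/
def OCert.chainOk : List Tab → List Lev → Bool
  | _, [] => true
  | G, L :: r => C.levOne G L && OCert.chainOk L.tabs r

/-- The generated group is the whole one. -/
def OCert.genOk : Bool :=
  C.chainOk [C.perms.getD 0 [], C.perms.getD 2 []] C.levels &&
    Nat.beq (C.levels.map Lev.len).prod C.N

/-- The relations and the arithmetic. -/
def OCert.relOk : Bool :=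
  C.eqW [1, 0] (List.replicate C.k 0 ++ [1]) &&
  C.eqW (List.replicate C.p 0) [] && !(C.eqW [0] []) &&
  C.eqW [3] (List.replicate C.s 1) && C.eqW [2, 1] [3, 2] &&
  Nat.beq (C.k * C.kinv % C.p) 1 && Nat.beq ((C.kinv * C.u + 1 + (C.p - 1) * C.u) % C.p) 0 &&
  ((List.range (C.p - 1)).all fun j => (List.range C.q).any fun m =>
    Nat.beq ((j + 1) * C.k ^ m % C.p) 1 || Nat.beq ((j + 1) * C.k ^ m % C.p) (C.p - 1)) &&
  Nat.blt C.zi C.known.length && C.eqW [2] (C.known.getD C.zi [])

/-- One candidate is excluded. -/
def OCert.verdictOk (e i : ℕ) (V : List ℕ × ℕ × ℕ) : Bool :=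
  V.1.all (fun g => Nat.beq g 0 || Nat.beq g 2) && Nat.blt V.2.2 C.np &&
  C.eqW (repW V.1 V.2.1) [] &&
  !(Nat.beq (evW C.perms (repW (substW e (C.known.getD i []) V.1) V.2.1) V.2.2) V.2.2)

/-- All candidates but the survivors are excluded. -/
def OCert.verdsOk : Bool :=
  (List.range C.known.length).all (fun i =>
    C.surv.any (fun j => Nat.beq j i) || C.verdictOk 1 i (C.verdOne.getD i ([], 0, 0))) &&
  (List.range C.known.length).all (fun i =>
    C.verdictOk (C.p - 1) i (C.verdNeg.getD i ([], 0, 0)))

/-- All checks. -/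
structure OCert.Ok : Prop where
  mats : C.matsOk = true
  pts : C.ptsOk = true
  perm0 : C.permOk 0 = true
  perm1 : C.permOk 1 = true
  perm2 : C.permOk 2 = true
  perm3 : C.permOk 3 = true
  gen : C.genOk = true
  rel : C.relOk = true
  searchA : C.searchOk C.spanA 0 0 C.p ((List.range C.p).map fun i => List.replicate i 0) = true
  searchY : C.searchOk C.spanY 1 3 C.q C.known = true
  verds : C.verdsOk = true

end CfsgLib.LeechOut
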