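/-
Automorphisms of a vector stabiliser in the automorphism group of the Leech lattice from a checked
certificate.
-/
import Cfsg.Agent.LeechOut.Check
import Cfsg.Agent.Leech.Pairs
import Cfsg.Prelude.Def_KGroupFacts

set_option autoImplicit false

namespace CfsgLib.LeechOut

open Cfsg CfsgLib.Leech CfsgLib.Leech.Co3Mult CfsgLib.Golay MulAction
open scoped Pointwise

/-! ### Groups and packed vectors -/

/-- The stabiliser of packed vectors. -/
def Stb (fx : List ℕ) : Subgroup Co0 where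
  carrier := {g | ∀ f ∈ fx, ∀ v : leechLattice, v.1 = Val f → g • v = v}
  one_mem' _ _ v _ := one_smul Co0 v
  mul_mem' {g h} hg hh f hf v hv := by rw [mul_smul, hh f hf v hv, hg f hf v hv]
  inv_mem' {g} hg f hf v hv := by rw [inv_smul_eq_iff, hg f hf v hv]

theorem fld_pkN : ∀ (n : ℕ) (f : ℕ → ℕ), (∀ t < n, f t < 65536) → ∀ t < n, fld (pkN n f) t = f t
  | 0, _, _, t, h => absurd h (Nat.not_lt_zero t)
  | n + 1, f, hf, t, ht => by
    change (f 0 + 65536 * pkN n fun t => f (t + 1)) / 65536 ^ t % 65536 = f t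
    rcases t with _ | t
    · have := hf 0 n.succ_pos
      rw [pow_zero, Nat.div_one]
      omega
    · have h0 := hf 0 n.succ_pos
      rw [pow_succ', ← Nat.div_div_eq_div_mul, Nat.add_mul_div_left _ _ (by norm_num), Nat.div_eq_of_lt h0, zero_add]
      exact fld_pkN n (fun t => f (t + 1)) (fun s hs => hf _ (Nat.succ_lt_succ hs)) t (Nat.lt_of_succ_lt_succ ht)

theorem pkN_sum : ∀ (n : ℕ) (f : ℕ → ℕ), pkN n f = ∑ t ∈ Finset.range n, f t * 65536 ^ t
  | 0, _ => rfl
  | n + 1, f => by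
    show f 0 + 65536 * pkN n (fun t => f (t + 1)) = _
    rw [Finset.sum_range_succ', pkN_sum n, Finset.mul_sum, pow_zero, mul_one, add_comm]
    congr 1
    refine Finset.sum_congr rfl fun t _ => ?_
    rw [pow_succ']; ring

theorem midP_spec {x y : ℕ} (hx : wf x = true) (hy : wf y = true) :
    midP x (pkN 24 fun t => fld y (23 - t)) = ∑ t ∈ Finset.range 24, fld x t * fld y t := by
  obtain ⟨hxb, hxp⟩ := wf_spec hx
  obtain ⟨hyb, -⟩ := wf_spec hy
  let S := Finset.range 24 ×ˢ Finset.range 24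
  let c : ℕ → ℕ := fun k => ∑ ij ∈ S.filter (fun ij => ij.1 + ij.2 = k), fld x ij.1 * fld y (23 - ij.2)
  have hmul : x * (pkN 24 fun t => fld y (23 - t)) = pkN 47 c := by
    conv_lhs => rw [← hxp]
    rw [pkN_sum, pkN_sum, pkN_sum, Finset.sum_mul_sum, ← Finset.sum_product']
    rw [← Finset.sum_fiberwise_of_maps_to (g := fun ij : ℕ × ℕ => ij.1 + ij.2) (t := Finset.range 47) (by
      intro ij hij
      simp only [Finset.mem_product, Finset.mem_range] at hij ⊢
      omega)]
    refine Finset.sum_congr rfl fun k _ => ?_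
    rw [Finset.sum_mul]
    refine Finset.sum_congr rfl fun ij hij => ?_
    rw [← (Finset.mem_filter.1 hij).2, pow_add]
    ring
  have hc : ∀ k < 47, c k < 65536 := fun k _ => by
    have h1 : c k ≤ (S.filter fun ij => ij.1 + ij.2 = k).card • 256 :=
      Finset.sum_le_card_nsmul _ _ _ fun ij hij => by
        simp only [S, Finset.mem_filter, Finset.mem_product, Finset.mem_range] at hij
        exact (Nat.mul_le_mul (hxb _ hij.1.1) (hyb _ (by omega))).trans (by norm_num)
    have h2 : (S.filter fun ij => ij.1 + ij.2 = k).card ≤ (Finset.range 24).card := by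
      refine Finset.card_le_card_of_injOn Prod.fst (fun ij hij => ?_) fun a ha b hb e => ?_
      · simp only [S, Finset.mem_coe, Finset.mem_filter, Finset.mem_product] at hij ⊢
        exact hij.1.1
      · simp only [S, Finset.mem_coe, Finset.mem_filter] at ha hb
        exact Prod.ext e (by omega)
    rw [Finset.card_range] at h2
    rw [smul_eq_mul] at h1
    omega
  show fld (x * pkN 24 fun t => fld y (23 - t)) 23 = _
  rw [hmul, fld_pkN 47 c hc 23 (by norm_num)]
  refine Finset.sum_bij' (fun ij _ => ij.1) (fun t _ => (t, 23 - t)) ?_ ?_ ?_ ?_ ?_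
  · intro ij h
    simp only [S, Finset.mem_filter, Finset.mem_product, Finset.mem_range] at h ⊢
    omega
  · intro t h
    simp only [S, Finset.mem_filter, Finset.mem_product, Finset.mem_range] at h ⊢
    omega
  · intro ij h
    simp only [S, Finset.mem_filter, Finset.mem_product, Finset.mem_range] at h
    exact Prod.ext rfl (by show 23 - ij.1 = ij.2; omega)
  · intro t _; rfl
  · intro ij h
    simp only [S, Finset.mem_filter, Finset.mem_product, Finset.mem_range] at h
    rw [show 23 - ij.2 = ij.1 by omega]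

theorem dot_Val (x y : ℕ) : dotInt (Val x) (Val y) =
    (∑ t ∈ Finset.range 24, fld x t * fld y t : ℕ) - 8 * (fldSum x 24 : ℤ) - 8 * (fldSum y 24 : ℤ) + 1536 := by
  refine (sum_pts fun j => ((fld x j : ℤ) - 8) * ((fld y j : ℤ) - 8)).trans ?_
  rw [fldSum_eq, fldSum_eq]
  push_cast
  simp only [sub_mul, mul_sub, Finset.sum_sub_distrib, ← Finset.mul_sum, ← Finset.sum_mul, Finset.sum_const,
    Finset.card_range, nsmul_eq_mul]
  ring

variable (C : OCert)

/-! ### Points and generators -/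

/-- A point as a lattice vector. -/
def OCert.P (i : ℕ) : leechLattice :=
  if h : inLeech (Val (C.pt i)) = true then ⟨_, inLeech_spec h⟩ else 0

variable {C}

theorem pts_spec (h : C.Ok) {i : ℕ} (hi : i < C.np) :
    wf (C.pt i) = true ∧ (C.P i).1 = Val (C.pt i) ∧
      tb C.revs i = (pkN 24 fun t => fld (C.pt i) (23 - t)) ∧ tb C.sums i = fldSum (C.pt i) 24 := by
  have := List.all_eq_true.1 h.pts i (List.mem_range.2 hi)
  simp only [Bool.and_eq_true, Nat.beq_eq] at this
  exact ⟨this.1.1.1.1, by rw [OCert.P, dif_pos this.1.1.1.2], this.1.1.2, this.1.2⟩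

theorem P_inj (h : C.Ok) {i j : ℕ} (hi : i < C.np) (hj : j < C.np) (e : C.P i = C.P j) : i = j := by
  have hv : C.pt i = C.pt j := eq_of_Val (pts_spec h hi).1 (pts_spec h hj).1
    (by rw [← (pts_spec h hi).2.1, ← (pts_spec h hj).2.1, e])
  have hstep : ∀ a b, a < b → b < C.np → C.pt a < C.pt b := by
    intro a b hab hb
    induction b with
    | zero => omega
    | succ b ih =>
      have := List.all_eq_true.1 h.pts b (List.mem_range.2 (by omega))
      simp only [Bool.and_eq_true, Bool.or_eq_true, Nat.beq_eq, Nat.blt_eq] at this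
      have h1 : C.pt b < C.pt (b + 1) := this.2.resolve_left (by omega)
      rcases Nat.lt_or_ge a b with hlt | hge
      · exact (ih hlt (by omega)).trans h1
      · exact (show a = b by omega) ▸ h1
  rcases lt_trichotomy i j with hlt | heq | hgt
  · exact absurd hv (hstep i j hlt hj).ne
  · exact heq
  · exact absurd hv.symm (hstep j i hgt hi).ne

theorem dotEq_spec (h : C.Ok) {a b c d : ℕ} (ha : a < C.np) (hb : b < C.np) (hc : c < C.np) (hd : d < C.np) :
    C.dotEq a b c d = true ↔ dotInt (C.P a).1 (C.P b).1 = dotInt (C.P c).1 (C.P d).1 := by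
  obtain ⟨wa, va, -, sa⟩ := pts_spec h ha
  obtain ⟨wb, vb, rb, sb⟩ := pts_spec h hb
  obtain ⟨wc, vc, -, sc⟩ := pts_spec h hc
  obtain ⟨wd, vd, rd, sd⟩ := pts_spec h hd
  rw [OCert.dotEq, Nat.beq_eq, rb, rd, midP_spec wa wb, midP_spec wc wd, sa, sb, sc, sd, va, vb, vc, vd,
    dot_Val, dot_Val]
  omega

/-- The group of the certificate. -/
abbrev OCert.Grp (C : OCert) : Subgroup Co0 := Stb C.fx

theorem exists_el (h : C.Ok) {g : ℕ} (hg : g < 4) :
    ∃ a : C.Grp, ∀ (v : leechLattice) (p : GolayPt), 8 * ((a : Co0) • v).1 p = lin (C.mats.getD g []) v.1 p := by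
  have := h.mats
  simp only [OCert.matsOk, Bool.and_eq_true, List.all_eq_true, List.mem_range, Nat.beq_eq] at this
  obtain ⟨hm, hf⟩ := this.2 g hg
  obtain ⟨a, ha⟩ := exists_aut hm
  have hM : wfM (C.mats.getD g []) = true := by
    simp only [matOk, Bool.and_eq_true] at hm
    exact hm.1.1.1.1.1.1
  refine ⟨⟨a, fun f hff v hv => Subtype.ext (funext fun p => ?_)⟩, ha⟩
  obtain ⟨⟨hw, hap⟩, he⟩ := hf f hff
  have h1 := (ap_spec hM hw hap).2 p
  rw [he, ← hv, ← ha] at h1
  omega

open Classical in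
/-- A generator. -/
noncomputable def OCert.el (C : OCert) (g : ℕ) : C.Grp :=
  if h : C.Ok ∧ g < 4 then (exists_el h.1 h.2).choose else 1

theorem permOk_of (h : C.Ok) {g : ℕ} (hg : g < 4) : C.permOk g = true := by
  obtain rfl | rfl | rfl | rfl : g = 0 ∨ g = 1 ∨ g = 2 ∨ g = 3 := by omega
  exacts [h.perm0, h.perm1, h.perm2, h.perm3]

theorem el_smul (h : C.Ok) {g : ℕ} (hg : g < 4) {i : ℕ} (hi : i < C.np) :
    tb (C.perms.getD g []) i < C.np ∧ (C.el g : Co0) • C.P i = C.P (tb (C.perms.getD g []) i) := by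
  have hh := List.all_eq_true.1 (permOk_of h hg) i (List.mem_range.2 hi)
  simp only [Bool.and_eq_true, Nat.blt_eq, Nat.beq_eq] at hh
  obtain ⟨⟨hj, hap⟩, he⟩ := hh
  refine ⟨hj, Subtype.ext (funext fun p => ?_)⟩
  have hm := h.mats
  simp only [OCert.matsOk, Bool.and_eq_true, List.all_eq_true, List.mem_range] at hm
  have hM : wfM (C.mats.getD g []) = true := by
    have := (hm.2 g hg).1
    simp only [matOk, Bool.and_eq_true] at this
    exact this.1.1.1.1.1.1
  have h1 := (exists_el h hg).choose_spec (C.P i) p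
  rw [show (exists_el h hg).choose = C.el g by rw [OCert.el, dif_pos ⟨h, hg⟩], (pts_spec h hi).2.1,
    ← (ap_spec hM (pts_spec h hi).1 hap).2, he] at h1
  rw [(pts_spec h hj).2.1]
  omega

/-- Value of a word in the generators. -/
noncomputable def OCert.wd (C : OCert) (w : List ℕ) : C.Grp := (w.map C.el).prod

theorem wd_nil : C.wd [] = 1 := rfl

theorem wd_cons (g : ℕ) (w : List ℕ) : C.wd (g :: w) = C.el g * C.wd w := by simp [OCert.wd]

theorem wd_single (g : ℕ) : C.wd [g] = C.el g := by simp [OCert.wd]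

theorem wd_append (w v : List ℕ) : C.wd (w ++ v) = C.wd w * C.wd v := by simp [OCert.wd]

theorem wd_replicate (n g : ℕ) : C.wd (List.replicate n g) = C.el g ^ n := by simp [OCert.wd]

theorem wd_repW (w : List ℕ) : ∀ m, C.wd (repW w m) = C.wd w ^ m
  | 0 => rfl
  | m + 1 => by rw [repW, wd_append, wd_repW w m, pow_succ']

theorem wd_smul (h : C.Ok) : ∀ {w : List ℕ}, (∀ g ∈ w, g < 4) → ∀ {i : ℕ}, i < C.np →
    evW C.perms w i < C.np ∧ (C.wd w : Co0) • C.P i = C.P (evW C.perms w i)
  | [], _, i, hi => ⟨hi, by rw [wd_nil, OneMemClass.coe_one, one_smul]; rfl⟩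
  | g :: r, hw, i, hi => by
    obtain ⟨h1, h2⟩ := wd_smul h (w := r) (fun x hx => hw x (List.mem_cons_of_mem _ hx)) hi
    obtain ⟨h3, h4⟩ := el_smul h (hw g List.mem_cons_self) h1
    exact ⟨h3, by rw [wd_cons, Subgroup.coe_mul, mul_smul, h2, h4]; rfl⟩

theorem itT_spec (h : C.Ok) {g : ℕ} (hg : g < 4) : ∀ (n : ℕ) {i : ℕ}, i < C.np →
    itT (C.perms.getD g []) n i < C.np ∧
      ((C.el g : Co0) ^ n) • C.P i = C.P (itT (C.perms.getD g []) n i)
  | 0, i, hi => ⟨hi, by rw [pow_zero, one_smul]; rfl⟩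
  | n + 1, i, hi => by
    obtain ⟨h1, h2⟩ := itT_spec h hg n hi
    obtain ⟨h3, h4⟩ := el_smul h hg h1
    exact ⟨h3, by rw [pow_succ', mul_smul, h2, h4]; rfl⟩

/-! ### Spanning -/

/-- A lattice vector and its image, packed. -/
def Moves (g : Co0) (x y : ℕ) : Prop := ∃ v : leechLattice, v.1 = Val x ∧ (g • v).1 = Val y

theorem lc_moves (g : Co0) : ∀ (cs : List ℤ) {xs ys : List ℕ}, List.Forall₂ (Moves g) xs ys →
    ∃ v : leechLattice, (∀ p, v.1 p = lcAt (idx p).val cs xs) ∧ ∀ p, (g • v).1 p = lcAt (idx p).val cs ys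
  | [], xs, ys, _ => ⟨0, fun p => by simp [lcAt], fun p => by
      let f : leechLattice →+ leechLattice := AddMonoidHom.mk' g.1 g.2.1
      rw [show g • (0 : leechLattice) = f 0 from rfl, map_zero]; simp [lcAt]⟩
  | c :: cs, [], ys, h => by
    cases h
    exact ⟨0, fun p => by simp [lcAt], fun p => by
      let f : leechLattice →+ leechLattice := AddMonoidHom.mk' g.1 g.2.1
      rw [show g • (0 : leechLattice) = f 0 from rfl, map_zero]; simp [lcAt]⟩
  | c :: cs, x :: xs, ys, h => by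
    obtain ⟨y, ys', ⟨u, hu, hgu⟩, hr, rfl⟩ := List.forall₂_cons_left_iff.1 h
    obtain ⟨v, hv, hgv⟩ := lc_moves g cs hr
    let f : leechLattice →+ leechLattice := AddMonoidHom.mk' g.1 g.2.1
    refine ⟨c • u + v, fun p => ?_, fun p => ?_⟩
    · rw [AddSubgroup.coe_add, AddSubgroup.coe_zsmul, Pi.add_apply, Pi.smul_apply, smul_eq_mul, hv, hu]
      rfl
    · rw [show g • (c • u + v) = f (c • u + v) from rfl, map_add, map_zsmul, AddSubgroup.coe_add,
        AddSubgroup.coe_zsmul, Pi.add_apply, Pi.smul_apply, smul_eq_mul]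
      rw [show (f v).1 p = (g • v).1 p from rfl, hgv, show (f u).1 p = (g • u).1 p from rfl, hgu]
      rfl

theorem vecs_moves (h : C.Ok) (S : Span) (T T' : Tab) (im im' : List ℕ) (c : C.Grp) (hfx : ∀ f ∈ C.fx,
      ∃ v : leechLattice, v.1 = Val f)
    (hsel : ∀ li ∈ S.sel, itT T li.2 (im.getD li.1 0) < C.np ∧ itT T' li.2 (im'.getD li.1 0) < C.np ∧
      (c : Co0) • C.P (itT T li.2 (im.getD li.1 0)) = C.P (itT T' li.2 (im'.getD li.1 0))) :
    List.Forall₂ (Moves (c : Co0)) (C.vecs S T im) (C.vecs S T' im') := by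
  refine List.rel_append (List.forall₂_same.2 fun f hf => ?_) ?_
  · obtain ⟨v, hv⟩ := hfx f hf
    exact ⟨v, hv, by rw [c.2 f hf v hv, hv]⟩
  · rw [List.forall₂_map_left_iff, List.forall₂_map_right_iff]
    refine List.forall₂_same.2 fun li hli => ?_
    obtain ⟨h1, h2, h3⟩ := hsel li hli
    exact ⟨_, (pts_spec h h1).2.1, by rw [h3, (pts_spec h h2).2.1]⟩

/-- The fixed vectors lie in the lattice. -/
def OCert.FxOk (C : OCert) : Prop := ∀ f ∈ C.fx, ∃ v : leechLattice, v.1 = Val f

theorem span_eight {S : Span} {g ord : ℕ} (hS : C.spanOk S g ord = true) {T' : Tab} {im' : List ℕ} {c : C.Grp}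
    (hm : List.Forall₂ (Moves (c : Co0)) (C.vecs S (C.perms.getD g []) S.base) (C.vecs S T' im')) (i p : GolayPt) :
    (S.D : ℤ) * ((c : Co0) • eight i).1 p = lcAt (idx p).val (S.rows.getD (idx i).val []) (C.vecs S T' im') := by
  simp only [OCert.spanOk, Bool.and_eq_true, List.all_eq_true, List.mem_range, beq_iff_eq] at hS
  obtain ⟨v, hv, hgv⟩ := lc_moves (c : Co0) (S.rows.getD (idx i).val []) hm
  have hvi : v = (S.D : ℤ) • eight i := Subtype.ext (funext fun q => by
    rw [hv, hS.1.2 _ (idx i).isLt _ (idx q).isLt, AddSubgroup.coe_zsmul, Pi.smul_apply, smul_eq_mul]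
    congr 1
    show Val (e8 (idx i).val) q = _
    rw [e8_val]; simp [eight, Pi.single_apply])
  let f : leechLattice →+ leechLattice := AddMonoidHom.mk' (c : Co0).1 (c : Co0).2.1
  rw [← hgv, hvi, show (c : Co0) • ((S.D : ℤ) • eight i) = f ((S.D : ℤ) • eight i) from rfl, map_zsmul,
    AddSubgroup.coe_zsmul, Pi.smul_apply, smul_eq_mul]
  rfl

theorem eq_of_span (h : C.Ok) (hfx : C.FxOk) {S : Span} {g ord : ℕ} (hg : g < 4) (hS : C.spanOk S g ord = true)
    {a b : C.Grp} (he : ∀ li ∈ S.sel, (a : Co0) • C.P (itT (C.perms.getD g []) li.2 (S.base.getD li.1 0)) =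
      (b : Co0) • C.P (itT (C.perms.getD g []) li.2 (S.base.getD li.1 0))) : a = b := by
  have hS' := hS
  simp only [OCert.spanOk, Bool.and_eq_true, List.all_eq_true, Nat.blt_eq] at hS'
  have hb : ∀ li ∈ S.sel, S.base.getD li.1 0 < C.np := fun li hli => by
    have hl := (hS'.1.1.1.2 li hli).1
    rw [List.getD_eq_getElem _ _ hl]
    exact hS'.1.1.1.1.2 _ (List.getElem_mem hl)
  have hc : ∀ li ∈ S.sel, ((b⁻¹ * a : C.Grp) : Co0) • C.P (itT (C.perms.getD g []) li.2 (S.base.getD li.1 0)) =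
      C.P (itT (C.perms.getD g []) li.2 (S.base.getD li.1 0)) := fun li hli => by
    rw [Subgroup.coe_mul, Subgroup.coe_inv, mul_smul, he li hli, inv_smul_smul]
  have hlt : ∀ li ∈ S.sel, itT (C.perms.getD g []) li.2 (S.base.getD li.1 0) < C.np := fun li hli =>
    (itT_spec h hg li.2 (hb li hli)).1
  have hm := vecs_moves h S (C.perms.getD g []) (C.perms.getD g []) S.base S.base (b⁻¹ * a) hfx
    fun li hli => ⟨hlt li hli, hlt li hli, hc li hli⟩
  have hm1 := vecs_moves h S (C.perms.getD g []) (C.perms.getD g []) S.base S.base (1 : C.Grp) hfx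
    fun li hli => ⟨hlt li hli, hlt li hli, by rw [OneMemClass.coe_one, one_smul]⟩
  have hD : (S.D : ℤ) ≠ 0 := by
    have h0 := hS'.1.1.1.1.1
    simp only [Bool.not_eq_true', ← Bool.not_eq_true, Nat.beq_eq] at h0
    exact_mod_cast h0
  have h1 : b⁻¹ * a = 1 := Subtype.ext (ext_eights fun i => Subtype.ext (funext fun p => by
    have e1 := span_eight hS hm i p
    rw [← span_eight hS hm1 i p] at e1
    exact mul_left_cancel₀ hD e1))
  exact (inv_mul_eq_one.1 h1).symm

theorem searchA_span (h : C.Ok) : C.spanOk C.spanA 0 C.p = true := by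
  have := h.searchA
  simp only [OCert.searchOk, Bool.and_eq_true] at this
  exact this.1.1

theorem eqW_spec (h : C.Ok) (hfx : C.FxOk) {w v : List ℕ} (he : C.eqW w v = true) : C.wd w = C.wd v := by
  simp only [OCert.eqW, Bool.and_eq_true, List.all_eq_true, Nat.blt_eq, Nat.beq_eq] at he
  have hS := searchA_span h
  simp only [OCert.spanOk, Bool.and_eq_true, List.all_eq_true, Nat.blt_eq] at hS
  refine eq_of_span h hfx (by norm_num : 0 < 4) (searchA_span h) fun li hli => ?_
  have hl := (hS.1.1.1.2 li hli).1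
  have hb : C.spanA.base.getD li.1 0 < C.np := by
    rw [List.getD_eq_getElem _ _ hl]; exact hS.1.1.1.1.2 _ (List.getElem_mem hl)
  have hx := (itT_spec h (by norm_num : 0 < 4) li.2 hb).1
  rw [(wd_smul h he.1.1 hx).2, (wd_smul h he.1.2 hx).2, he.2 li hli]

/-! ### Centralisers -/

/-- The images of the base points. -/
def Img (C : OCert) (c : C.Grp) : List ℕ → List ℕ → Prop :=
  List.Forall₂ fun r x => r < C.np ∧ x < C.np ∧ (c : Co0) • C.P r = C.P x

theorem exists_img (himg : ∀ (c : C.Grp) (i : ℕ), i < C.np → ∃ j < C.np, (c : Co0) • C.P i = C.P j) (c : C.Grp) :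
    ∀ B : List ℕ, (∀ r ∈ B, r < C.np) → ∃ im, Img C c B im
  | [], _ => ⟨[], List.Forall₂.nil⟩
  | r :: B, hB => by
    obtain ⟨im, him⟩ := exists_img himg c B fun x hx => hB x (List.mem_cons_of_mem _ hx)
    obtain ⟨j, hj, e⟩ := himg c r (hB r List.mem_cons_self)
    exact ⟨j :: im, List.Forall₂.cons ⟨hB r List.mem_cons_self, hj, e⟩ him⟩

theorem mem_enumI (h : C.Ok) {g g' : ℕ} (hg : g < 4) (hg' : g' < 4) {ord : ℕ} {c : C.Grp}
    (hc : c * C.el g = C.el g' * c) : ∀ {B im : List ℕ}, Img C c B im →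
      im ∈ C.enumI (C.perms.getD g []) (C.perms.getD g' []) ord B
  | [], im, hi => by cases hi; exact List.mem_singleton.2 rfl
  | r :: B, _, hi => by
    obtain ⟨x, im, hrx, hrest, rfl⟩ := List.forall₂_cons_left_iff.1 hi
    obtain ⟨hr, hx, he⟩ := hrx
    simp only [OCert.enumI, List.mem_flatMap, List.mem_map, List.mem_filter, List.mem_range]
    refine ⟨im, mem_enumI h hg hg' hc hrest, x, ⟨hx, ?_⟩, rfl⟩
    simp only [OCert.okI, List.all_eq_true, List.mem_range]
    intro uv huv i _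
    obtain ⟨hu, hv, huv'⟩ : uv.1 < C.np ∧ uv.2 < C.np ∧ (c : Co0) • C.P uv.1 = C.P uv.2 := by
      rcases List.mem_cons.1 huv with rfl | hm
      · exact ⟨hr, hx, he⟩
      · exact List.forall₂_zip hrest hm
    obtain ⟨h1, e1⟩ := itT_spec h hg i hu
    obtain ⟨h2, e2⟩ := itT_spec h hg' i hv
    rw [dotEq_spec h h1 hr h2 hx, ← e1, ← e2, ← huv', ← he]
    have hci : (c : Co0) * (C.el g : Co0) ^ i = (C.el g' : Co0) ^ i * (c : Co0) :=
      SemiconjBy.pow_right (show SemiconjBy (c : Co0) (C.el g : Co0) (C.el g' : Co0) from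
        congrArg Subtype.val hc) i
    rw [← mul_smul, ← hci, mul_smul, dot_smul]

theorem search_spec (h : C.Ok) (hfx : C.FxOk)
    (himg : ∀ (c : C.Grp) (i : ℕ), i < C.np → ∃ j < C.np, (c : Co0) • C.P i = C.P j)
    {S : Span} {g g' ord : ℕ} (hg : g < 4) (hg' : g' < 4) {known : List (List ℕ)}
    (hs : C.searchOk S g g' ord known = true) (hk : ∀ w ∈ known, C.wd w * C.el g = C.el g' * C.wd w)
    {c : C.Grp} (hc : c * C.el g = C.el g' * c) : ∃ w ∈ known, c = C.wd w := by
  simp only [OCert.searchOk, Bool.and_eq_true, List.all_eq_true, Nat.blt_eq, Bool.or_eq_true, List.any_eq_true,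
    beq_iff_eq] at hs
  obtain ⟨⟨hS, hkw⟩, henum⟩ := hs
  have hS' := hS
  simp only [OCert.spanOk, Bool.and_eq_true, List.all_eq_true, Nat.blt_eq] at hS'
  have hB : ∀ r ∈ S.base, r < C.np := hS'.1.1.1.1.2
  obtain ⟨im, him⟩ := exists_img himg c S.base hB
  have hget : ∀ li ∈ S.sel, S.base.getD li.1 0 < C.np ∧ im.getD li.1 0 < C.np ∧
      (c : Co0) • C.P (S.base.getD li.1 0) = C.P (im.getD li.1 0) := fun li hli => by
    have hl := (hS'.1.1.1.2 li hli).1
    have hlen := him.length_eq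
    rw [List.getD_eq_getElem _ _ hl, List.getD_eq_getElem _ _ (hlen ▸ hl)]
    exact List.Forall₂.get him hl (hlen ▸ hl)
  have hsel : ∀ li ∈ S.sel, itT (C.perms.getD g []) li.2 (S.base.getD li.1 0) < C.np ∧
      itT (C.perms.getD g' []) li.2 (im.getD li.1 0) < C.np ∧
      (c : Co0) • C.P (itT (C.perms.getD g []) li.2 (S.base.getD li.1 0)) =
        C.P (itT (C.perms.getD g' []) li.2 (im.getD li.1 0)) := fun li hli => by
    obtain ⟨a1, a2, a3⟩ := hget li hli
    obtain ⟨b1, b2⟩ := itT_spec h hg li.2 a1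
    obtain ⟨b3, b4⟩ := itT_spec h hg' li.2 a2
    refine ⟨b1, b3, ?_⟩
    have hci : (c : Co0) * (C.el g : Co0) ^ li.2 = (C.el g' : Co0) ^ li.2 * (c : Co0) :=
      SemiconjBy.pow_right (show SemiconjBy (c : Co0) (C.el g : Co0) (C.el g' : Co0) from
        congrArg Subtype.val hc) li.2
    rw [← b2, ← b4, ← a3, ← mul_smul, hci, mul_smul]
  rcases henum im (mem_enumI h hg hg' hc him) with hk' | ⟨w, hw, he⟩
  · exfalso
    simp only [OCert.killed, List.any_eq_true, Bool.not_eq_true', beq_eq_false_iff_ne] at hk'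
    obtain ⟨T, hT, hne⟩ := hk'
    have hT' := hS'.2 T hT
    simp only [List.mem_range, beq_iff_eq] at hT'
    obtain ⟨⟨hw1, hz1⟩, hrow⟩ := hT'
    obtain ⟨v, hv, hgv⟩ := lc_moves (c : Co0) T.1
      (vecs_moves h S (C.perms.getD g []) (C.perms.getD g' []) S.base im c hfx hsel)
    let W : leechLattice := ⟨_, inLeech_spec hw1⟩
    have hvW : v = (S.D : ℤ) • W := Subtype.ext (funext fun p => by
      rw [hv, hrow _ (idx p).isLt, AddSubgroup.coe_zsmul, Pi.smul_apply, smul_eq_mul]; rfl)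
    obtain ⟨d, hd⟩ := dot_dvd ((c : Co0) • W).2 (inLeech_spec hz1)
    apply hne
    let f : leechLattice →+ leechLattice := AddMonoidHom.mk' (c : Co0).1 (c : Co0).2.1
    have hsum : ((List.range 24).map fun t => lcAt t T.1 (C.vecs S (C.perms.getD g' []) im) *
        ((fld T.2.2 t : ℤ) - 8)).sum = (S.D : ℤ) * dotInt ((c : Co0) • W).1 (Val T.2.2) := by
      rw [← List.sum_toFinset _ List.nodup_range, List.toFinset_range,
        ← sum_pts fun t => lcAt t T.1 (C.vecs S (C.perms.getD g' []) im) * ((fld T.2.2 t : ℤ) - 8), dotInt,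
        Finset.mul_sum]
      refine Finset.sum_congr rfl fun p _ => ?_
      rw [← hgv, hvW, show (c : Co0) • ((S.D : ℤ) • W) = f ((S.D : ℤ) • W) from rfl, map_zsmul,
        AddSubgroup.coe_zsmul, Pi.smul_apply, smul_eq_mul, mul_assoc]
      rfl
    rw [hsum, hd]
    exact Int.emod_eq_zero_of_dvd ⟨d, by ring⟩
  · refine ⟨w, hw, eq_of_span h hfx hg hS fun li hli => ?_⟩
    have hl := (hS'.1.1.1.2 li hli).1
    obtain ⟨a1, a2, a3⟩ := hget li hli
    obtain ⟨b1, b2⟩ := wd_smul h (hkw w hw) a1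
    have e : im.getD li.1 0 = evW C.perms w (S.base.getD li.1 0) := by
      rw [he, List.getD_eq_getElem _ _ (by simpa using hl), List.getElem_map, List.getD_eq_getElem _ _ hl]
    have hci : ∀ d : C.Grp, d * C.el g = C.el g' * d →
        (d : Co0) * (C.el g : Co0) ^ li.2 = (C.el g' : Co0) ^ li.2 * (d : Co0) := fun d hd =>
      SemiconjBy.pow_right (show SemiconjBy (d : Co0) (C.el g : Co0) (C.el g' : Co0) from
        congrArg Subtype.val hd) li.2
    rw [← (itT_spec h hg li.2 a1).2, ← mul_smul, ← mul_smul, hci c hc, hci _ (hk w hw), mul_smul, mul_smul, a3, b2,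
      e]

/-! ### Generation -/

theorem card_ge (h : C.Ok) : ∀ (Ls : List Lev) (G : List Tab) (H : Subgroup Co0), Finite H →
    C.chainOk G Ls = true →
    (∀ g < G.length, ∃ a ∈ H, ∀ i < C.np, tb (G.getD g []) i < C.np ∧ a • C.P i = C.P (tb (G.getD g []) i)) →
    (Ls.map Lev.len).prod ≤ Nat.card H
  | [], _, H, _, _, _ => by rw [List.map_nil, List.prod_nil]; exact Nat.card_pos
  | L :: rest, G, H, hfin, hok, hG => by
    simp only [OCert.chainOk, OCert.levOne, Bool.and_eq_true, List.all_eq_true, List.mem_range, Nat.blt_eq,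
      Nat.beq_eq, Bool.or_eq_true] at hok
    obtain ⟨⟨⟨⟨⟨⟨hlen, h0⟩, hpt⟩, -⟩, horb⟩, htabs⟩, hrest⟩ := hok
    have hev : ∀ w : List ℕ, (∀ g ∈ w, g < G.length) → ∃ a ∈ H, ∀ i < C.np, evW G w i < C.np ∧
        a • C.P i = C.P (evW G w i) := by
      intro w
      induction w with
      | nil => exact fun _ => ⟨1, one_mem _, fun i hi => ⟨hi, one_smul _ _⟩⟩
      | cons g r ih =>
        intro hw
        obtain ⟨a, ha, hae⟩ := ih fun x hx => hw x (List.mem_cons_of_mem _ hx)
        obtain ⟨b, hb, hbe⟩ := hG g (hw g List.mem_cons_self)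
        refine ⟨b * a, mul_mem hb ha, fun i hi => ?_⟩
        obtain ⟨h1, h2⟩ := hae i hi
        obtain ⟨h3, h4⟩ := hbe _ h1
        exact ⟨h3, by rw [mul_smul, h2, h4]; rfl⟩
    have hmem : ∀ k < L.len, tb L.orb k < C.np ∧ C.P (tb L.orb k) ∈ orbit H (C.P L.pt) := by
      intro k
      induction k using Nat.strong_induction_on with
      | _ k ih =>
        intro hk
        rcases (horb k hk).2 with rfl | ⟨⟨hp, hg⟩, he⟩
        · rw [h0]; exact ⟨hpt, mem_orbit_self _⟩
        · obtain ⟨h1, x, hx⟩ := ih _ hp (hp.trans hk)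
          obtain ⟨a, ha, hae⟩ := hG _ hg
          obtain ⟨h3, h4⟩ := hae _ h1
          rw [he]
          refine ⟨h3, ⟨⟨a, ha⟩ * x, ?_⟩⟩
          show (⟨a, ha⟩ * x : H) • C.P L.pt = _
          rw [mul_smul, show x • C.P L.pt = _ from hx]
          exact h4
    have horbit : L.len ≤ (orbit H (C.P L.pt)).ncard := by
      have hfo : (orbit H (C.P L.pt)).Finite := Set.finite_range _
      rw [← Finset.card_range L.len, ← Set.ncard_coe_finset]
      refine Set.ncard_le_ncard_of_injOn (fun k => C.P (tb L.orb k))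
        (fun k hk => (hmem k (Finset.mem_range.1 hk)).2) ?_ hfo
      intro a ha b hb e
      simp only [Finset.coe_range, Set.mem_Iio] at ha hb
      rw [← (horb a ha).1, P_inj h (hmem a ha).1 (hmem b hb).1 e, (horb b hb).1]
    let K : Subgroup Co0 := H ⊓ stabilizer Co0 (C.P L.pt)
    have hKfin : Finite K := Finite.of_injective (Subgroup.inclusion inf_le_left) (Subgroup.inclusion_injective _)
    have ih := card_ge h rest L.tabs K hKfin hrest fun g hg => by
      obtain ⟨⟨hw, hfix⟩, heq⟩ := htabs g hg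
      obtain ⟨a, ha, hae⟩ := hev _ hw
      refine ⟨a, ⟨ha, ?_⟩, fun i hi => by rw [← heq i hi]; exact hae i hi⟩
      show a • C.P L.pt = C.P L.pt
      rw [(hae _ hpt).2, heq _ hpt, hfix]
    have hcard : Nat.card H = (orbit H (C.P L.pt)).ncard * Nat.card K := by
      rw [← (stabilizer H (C.P L.pt)).card_mul_index, index_stabilizer, mul_comm]
      congr 1
      exact Nat.card_congr
        { toFun := fun x => ⟨x.1.1, x.1.2, x.2⟩
          invFun := fun x => ⟨⟨x.1, x.2.1⟩, x.2.2⟩
          left_inv := fun _ => rfl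
          right_inv := fun _ => rfl }
    rw [List.map_cons, List.prod_cons, hcard]
    exact Nat.mul_le_mul horbit ih

theorem closure_top (h : C.Ok) (hN : Nat.card C.Grp = C.N) (hfin : Finite C.Grp) :
    Subgroup.closure ({C.el 0, C.el 2} : Set C.Grp) = ⊤ := by
  refine Subgroup.eq_top_of_card_eq _ (le_antisymm (Subgroup.card_le_card_group _) ?_)
  have hg := h.gen
  simp only [OCert.genOk, Bool.and_eq_true, Nat.beq_eq] at hg
  rw [hN, ← hg.2]
  let H := (Subgroup.closure ({C.el 0, C.el 2} : Set C.Grp)).map C.Grp.subtype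
  have e : Nat.card H = Nat.card (Subgroup.closure ({C.el 0, C.el 2} : Set C.Grp)) :=
    (Nat.card_congr (Subgroup.equivMapOfInjective _ _ C.Grp.subtype_injective).toEquiv).symm
  rw [← e]
  refine card_ge h C.levels _ H (Finite.of_equiv _ (Subgroup.equivMapOfInjective _ _ C.Grp.subtype_injective).toEquiv)
    hg.1 fun g hg' => ?_
  simp only [List.length_cons, List.length_nil] at hg'
  obtain rfl | rfl : g = 0 ∨ g = 1 := by omega
  · exact ⟨_, ⟨C.el 0, Subgroup.subset_closure (by simp), rfl⟩, fun i hi => el_smul h (by norm_num) hi⟩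
  · exact ⟨_, ⟨C.el 2, Subgroup.subset_closure (by simp), rfl⟩, fun i hi => el_smul h (by norm_num) hi⟩

theorem img_mem (h : C.Ok) (hN : Nat.card C.Grp = C.N) (hfin : Finite C.Grp) (c : C.Grp) (i : ℕ) (hi : i < C.np) :
    ∃ j < C.np, (c : Co0) • C.P i = C.P j := by
  have hc : c ∈ Subgroup.closure ({C.el 0, C.el 2} : Set C.Grp) := by rw [closure_top h hN hfin]; trivial
  induction hc using Subgroup.closure_induction generalizing i with
  | mem x hx =>
    rcases hx with rfl | rfl
    · exact ⟨_, (el_smul h (by norm_num : 0 < 4) hi).1, (el_smul h (by norm_num : 0 < 4) hi).2⟩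
    · exact ⟨_, (el_smul h (by norm_num : 2 < 4) hi).1, (el_smul h (by norm_num : 2 < 4) hi).2⟩
  | one => exact ⟨i, hi, one_smul _ _⟩
  | mul x y _ _ hx hy =>
    obtain ⟨j, hj, e⟩ := hy i hi
    obtain ⟨k, hk, e'⟩ := hx j hj
    exact ⟨k, hk, by rw [Subgroup.coe_mul, mul_smul, e, e']⟩
  | inv x _ hx =>
    choose f hf hfe using fun a : Fin C.np => hx a a.2
    have hinj : Function.Injective fun a : Fin C.np => (⟨f a, hf a⟩ : Fin C.np) := fun a b e => by
      have e1 := congrArg Fin.val e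
      refine Fin.ext (P_inj h a.2 b.2 (MulAction.injective (x : Co0) ?_))
      show (x : Co0) • C.P a = (x : Co0) • C.P b
      rw [hfe, hfe]
      exact congrArg C.P e1
    obtain ⟨a, ha⟩ := Finite.injective_iff_surjective.1 hinj ⟨i, hi⟩
    refine ⟨a, a.2, ?_⟩
    rw [Subgroup.coe_inv, inv_smul_eq_iff, hfe]
    exact (congrArg (fun u : Fin C.np => C.P u.val) ha).symm

/-! ### Automorphisms -/

/-- An automorphism in normal form. -/
def OCert.Normal (C : OCert) (ψ : MulAut C.Grp) (i : ℕ) : Prop :=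
  ψ (C.el 0) = C.el 0 ∧ ψ (C.el 2) = C.wd (C.known.getD i [])

theorem gen_ext (h : C.Ok) (hN : Nat.card C.Grp = C.N) (hfin : Finite C.Grp) {f f' : MulAut C.Grp}
    (h0 : f (C.el 0) = f' (C.el 0)) (h2 : f (C.el 2) = f' (C.el 2)) : f = f' := by
  refine MulEquiv.toMonoidHom_injective (MonoidHom.eq_of_eqOn_dense (closure_top h hN hfin) ?_)
  rintro x (rfl | rfl) <;> assumption

theorem normal_form (h : C.Ok) (hfx : C.FxOk) (hN : Nat.card C.Grp = C.N) (hfin : Finite C.Grp)
    (hp : C.p.Prime) (hpd : C.p ∣ C.N) (hp2 : ¬ C.p ^ 2 ∣ C.N)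
    (hkY : ∀ w ∈ C.known, C.eqW (w ++ [1]) ([3] ++ w) = true) (φ : MulAut C.Grp) :
    ∃ g : C.Grp, ∃ i ∈ C.surv, C.Normal (MulAut.conj g * φ) i := by
  classical
  have := Fact.mk hp
  have himg := img_mem h hN hfin
  have hrel := h.rel
  simp only [OCert.relOk, Bool.and_eq_true, List.all_eq_true, List.mem_range, List.any_eq_true, Bool.or_eq_true,
    Nat.beq_eq, Bool.not_eq_true', Nat.blt_eq] at hrel
  obtain ⟨⟨⟨⟨⟨⟨⟨⟨⟨hYA, hAp⟩, hA1⟩, hY3⟩, hZY⟩, hkk⟩, hu⟩, hconj⟩, -⟩, -⟩ := hrel
  set A := C.el 0 with hAdef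
  set Y := C.el 1 with hYdef
  have hpow : A ^ C.p = 1 := by rw [hAdef, ← wd_replicate, eqW_spec h hfx hAp, wd_nil]
  have hA : A ≠ 1 := by
    intro e
    have hS := searchA_span h
    simp only [OCert.spanOk, Bool.and_eq_true, List.all_eq_true, Nat.blt_eq] at hS
    have : C.eqW [0] [] = true := by
      simp only [OCert.eqW, Bool.and_eq_true, List.all_eq_true, Nat.blt_eq, Nat.beq_eq, List.mem_singleton,
        List.not_mem_nil, IsEmpty.forall_iff, implies_true, forall_eq, and_true]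
      refine ⟨by norm_num, fun li hli => ?_⟩
      have hl := (hS.1.1.1.2 li hli).1
      have hb : C.spanA.base.getD li.1 0 < C.np := by
        rw [List.getD_eq_getElem _ _ hl]; exact hS.1.1.1.1.2 _ (List.getElem_mem hl)
      obtain ⟨h1, e1⟩ := itT_spec h (by norm_num : 0 < 4) li.2 hb
      obtain ⟨h2, e2⟩ := wd_smul h (w := [0]) (by simp) h1
      rw [wd_single, ← hAdef, e, OneMemClass.coe_one, one_smul] at e2
      exact (P_inj h h1 h2 e2).symm
    rw [this] at hA1
    exact absurd hA1 (by simp)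
  have hoA : orderOf A = C.p := orderOf_eq_prime hpow hA
  have hAeq : ∀ {a b : ℕ}, a % C.p = b % C.p → A ^ a = A ^ b := fun {a b} hab =>
    pow_eq_pow_iff_modEq.2 (by rw [hoA]; exact hab)
  have hYA' : Y * A = A ^ C.k * Y := by
    have := eqW_spec h hfx hYA
    rwa [wd_cons, wd_single, wd_append, wd_replicate, wd_single] at this
  have hYAn : ∀ n : ℕ, Y * A ^ n = A ^ (C.k * n) * Y := by
    intro n
    induction n with
    | zero => simp
    | succ n ih => rw [pow_succ, ← mul_assoc, ih, mul_assoc, hYA', ← mul_assoc, ← pow_add, Nat.mul_succ]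
  have hYmA : ∀ m n : ℕ, Y ^ m * A ^ n = A ^ (C.k ^ m * n) * Y ^ m := by
    intro m
    induction m with
    | zero => simp
    | succ m ih =>
      intro n
      rw [pow_succ' Y, mul_assoc, ih n, ← mul_assoc, hYAn, mul_assoc,
        show C.k * (C.k ^ m * n) = C.k ^ (m + 1) * n by ring]
  have hfac : (Nat.card C.Grp).factorization C.p = 1 := by
    obtain ⟨d, hd⟩ := hpd
    have hd0 : d ≠ 0 := by
      rintro rfl
      rw [mul_zero] at hd
      have := hN.trans hd
      exact absurd this (Nat.card_pos (α := C.Grp)).ne'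
    rw [hN, hd, Nat.factorization_mul hp.ne_zero hd0, Finsupp.add_apply, hp.factorization_self,
      Nat.factorization_eq_zero_of_not_dvd fun hh => hp2 (by rw [hd, pow_two]; exact Nat.mul_dvd_mul_left _ hh)]
  have hsyl : ∀ x : C.Grp, orderOf x = C.p →
      Nat.card (Subgroup.zpowers x) = C.p ^ (Nat.card C.Grp).factorization C.p := fun x hx => by
    rw [Nat.card_zpowers, hx, hfac, pow_one]
  have hoA' : orderOf (φ A) = C.p := by rw [MulEquiv.orderOf_eq]; exact hoA
  obtain ⟨g1, hg1⟩ := MulAction.exists_smul_eq C.Grp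
    (Sylow.ofCard (Subgroup.zpowers A) (hsyl A hoA)) (Sylow.ofCard (Subgroup.zpowers (φ A)) (hsyl _ hoA'))
  have hin : g1⁻¹ * φ A * g1 ∈ Subgroup.zpowers A := by
    have e : Subgroup.zpowers (φ A) = MulAut.conj g1 • Subgroup.zpowers A := (congrArg Sylow.toSubgroup hg1).symm
    have h2 : φ A ∈ MulAut.conj g1 • Subgroup.zpowers A := e ▸ Subgroup.mem_zpowers _
    rw [Subgroup.mem_pointwise_smul_iff_inv_smul_mem, MulAut.smul_def, MulAut.conj_inv_apply] at h2
    exact h2
  rw [mem_zpowers_iff_mem_range_orderOf, Finset.mem_image] at hin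
  obtain ⟨j, hj, hje⟩ := hin
  rw [Finset.mem_range, hoA] at hj
  have hj0 : j ≠ 0 := by
    rintro rfl
    rw [pow_zero, eq_comm] at hje
    have h2 : φ A = 1 := by
      have := congrArg (fun x => g1 * x * g1⁻¹) hje
      simpa [mul_assoc] using this
    rw [h2, orderOf_one] at hoA'
    exact hp.ne_one hoA'.symm
  obtain ⟨m, -, hm⟩ := hconj (j - 1) (by omega)
  rw [Nat.sub_add_cancel (Nat.pos_of_ne_zero hj0)] at hm
  set e := j * C.k ^ m % C.p with hedef
  set g2 : C.Grp := Y ^ m * g1⁻¹ with hg2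
  set ψ := MulAut.conj g2 * φ with hψ
  have hψA : ψ A = A ^ e := by
    show g2 * φ A * g2⁻¹ = _
    rw [hg2, mul_inv_rev, inv_inv, show Y ^ m * g1⁻¹ * φ A * (g1 * (Y ^ m)⁻¹) =
      Y ^ m * (g1⁻¹ * φ A * g1) * (Y ^ m)⁻¹ by group, ← hje, hYmA, mul_inv_cancel_right]
    exact hAeq (by rw [Nat.mod_mod, Nat.mul_comm])
  have he2 : e * e % C.p = 1 % C.p := by
    rcases hm with hm | hm
    · rw [hm]
    · rw [hm]
      have h2 := hp.two_le
      obtain ⟨q, hq⟩ : ∃ q, C.p = q + 2 := ⟨C.p - 2, by omega⟩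
      rw [hq, show (q + 2 - 1) * (q + 2 - 1) = 1 + (q + 2) * q by
        rw [show q + 2 - 1 = q + 1 by omega]; ring, Nat.add_mul_mod_self_left]
  have hknA : ∀ w ∈ (List.range C.p).map (fun i => List.replicate i 0), C.wd w * C.el 0 = C.el 0 * C.wd w := by
    intro w hw
    obtain ⟨i, -, rfl⟩ := List.mem_map.1 hw
    rw [wd_replicate, ← pow_succ, ← pow_succ']
  have hc1 : Commute (Y⁻¹ * ψ Y) (A ^ e) := by
    have h1 := congrArg ψ hYA'
    rw [map_mul, map_mul, map_pow, hψA, ← pow_mul] at h1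
    show Y⁻¹ * ψ Y * A ^ e = A ^ e * (Y⁻¹ * ψ Y)
    have k : Y⁻¹ * A ^ (C.k * e) = A ^ e * Y⁻¹ := by
      rw [inv_mul_eq_iff_eq_mul, ← mul_assoc, hYAn, mul_inv_cancel_right]
    rw [mul_assoc, h1, show e * C.k = C.k * e from Nat.mul_comm _ _, ← mul_assoc, ← mul_assoc, k]
  have hc2 : Commute (Y⁻¹ * ψ Y) A := by
    have := hc1.pow_right e
    rwa [← pow_mul, hAeq he2, pow_one] at this
  obtain ⟨w, hw, hwe⟩ := search_spec h hfx himg (by norm_num : 0 < 4) (by norm_num : 0 < 4) h.searchA hknA hc2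
  obtain ⟨i, -, rfl⟩ := List.mem_map.1 hw
  rw [wd_replicate, inv_mul_eq_iff_eq_mul] at hwe
  -- remove the power of the first generator
  set l := C.u * i with hl
  set ψ' := MulAut.conj (A ^ l * g2) * φ with hψ'
  have hψ'A : ψ' A = A ^ e := by
    rw [hψ', map_mul, mul_assoc, ← hψ, MulAut.mul_apply, hψA, MulAut.conj_apply, ← pow_add, Nat.add_comm,
      pow_add, mul_inv_cancel_right]
  have hψ'Y : ψ' Y = Y := by
    rw [hψ', map_mul, mul_assoc, ← hψ, MulAut.mul_apply, hwe, MulAut.conj_apply, mul_inv_eq_iff_eq_mul]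
    have hswap : A ^ l * Y = Y * A ^ (C.kinv * l) := by
      rw [hYAn]
      congr 1
      refine hAeq ?_
      rw [← Nat.mul_assoc, Nat.mul_mod (C.k * C.kinv) l, hkk, one_mul, Nat.mod_mod]
    rw [← mul_assoc, hswap, mul_assoc, ← pow_add]
    congr 1
    refine hAeq ?_
    have key : (C.kinv * C.u + 1) % C.p = C.u % C.p := by
      have h3 : (C.kinv * C.u + 1 + (C.p - 1) * C.u + C.u) % C.p = C.u % C.p := by
        rw [Nat.add_mod, hu, zero_add, Nat.mod_mod]
      rw [← h3, show C.kinv * C.u + 1 + (C.p - 1) * C.u + C.u = C.kinv * C.u + 1 + C.p * C.u by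
        have : (C.p - 1) * C.u + C.u = C.p * C.u := by
          rw [← Nat.succ_mul]; congr 1; have := hp.pos; omega
        omega, Nat.add_mul_mod_self_left]
    rw [show C.kinv * l + i = (C.kinv * C.u + 1) * i by rw [hl]; ring, hl, Nat.mul_mod, key, ← Nat.mul_mod]
  have hel3 : C.el 3 = Y ^ C.s := by
    have := eqW_spec h hfx hY3
    rwa [wd_single, wd_replicate] at this
  have hcZ : ψ' (C.el 2) * C.el 1 = C.el 3 * ψ' (C.el 2) := by
    have h1 : C.el 2 * Y = Y ^ C.s * C.el 2 := by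
      have := eqW_spec h hfx hZY
      rwa [wd_cons, wd_single, wd_cons, wd_single, hel3] at this
    have h2 := congrArg ψ' h1
    rw [map_mul, map_mul, map_pow, hψ'Y] at h2
    rw [hel3]
    exact h2
  have hkn : ∀ w ∈ C.known, C.wd w * C.el 1 = C.el 3 * C.wd w := fun w hw => by
    have := eqW_spec h hfx (hkY w hw)
    rwa [wd_append, wd_append, wd_single, wd_single] at this
  obtain ⟨w, hw, hwZ⟩ := search_spec h hfx himg (by norm_num : 1 < 4) (by norm_num : 3 < 4) h.searchY hkn hcZ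
  obtain ⟨n, hn, rfl⟩ := List.getElem_of_mem hw
  rw [← List.getD_eq_getElem C.known [] hn] at hwZ
  have hv := h.verds
  simp only [OCert.verdsOk, Bool.and_eq_true, List.all_eq_true, List.mem_range, Bool.or_eq_true, List.any_eq_true,
    Nat.beq_eq] at hv
  have hkill : ∀ V : List ℕ × ℕ × ℕ, C.verdictOk e n V = true → False := by
    rintro ⟨v, mm, x⟩ hV
    simp only [OCert.verdictOk, Bool.and_eq_true, List.all_eq_true, Bool.or_eq_true, Nat.beq_eq, Nat.blt_eq,
      Bool.not_eq_true'] at hV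
    obtain ⟨⟨⟨hv4, hx⟩, heq⟩, hne⟩ := hV
    have h1 := eqW_spec h hfx heq
    rw [wd_repW, wd_nil] at h1
    have hsub : ∀ v : List ℕ, (∀ g ∈ v, g = 0 ∨ g = 2) →
        ψ' (C.wd v) = C.wd (substW e (C.known.getD n []) v) := by
      intro v
      induction v with
      | nil => intro _; exact map_one ψ'
      | cons g r ih =>
        intro hv'
        rw [wd_cons, map_mul, ih fun a ha => hv' a (List.mem_cons_of_mem _ ha), substW, wd_append]
        congr 1
        rcases hv' g List.mem_cons_self with rfl | rfl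
        · rw [hψ'A, show Nat.beq 0 0 = true from rfl, cond_true, wd_replicate]
        · rw [hwZ, show Nat.beq 2 0 = false from rfl, cond_false]
    have h2 := congrArg ψ' h1
    rw [map_pow, map_one, hsub v hv4, ← wd_repW] at h2
    have hk4 : ∀ g ∈ C.known.getD n [], g < 4 := by
      have := h.searchY
      simp only [OCert.searchOk, Bool.and_eq_true, List.all_eq_true, Nat.blt_eq] at this
      rw [List.getD_eq_getElem _ _ hn]
      exact this.1.2 _ hw
    have hs4 : ∀ (v : List ℕ), ∀ g ∈ substW e (C.known.getD n []) v, g < 4 := by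
      intro v
      induction v with
      | nil => simp [substW]
      | cons a r ih =>
        intro g hg
        rw [substW, List.mem_append] at hg
        rcases hg with hg | hg
        · cases hb : Nat.beq a 0 <;> simp only [hb, cond_true, cond_false] at hg
          · exact hk4 g hg
          · rw [List.eq_of_mem_replicate hg]; norm_num
        · exact ih g hg
    have hr4 : ∀ g ∈ repW (substW e (C.known.getD n []) v) mm, g < 4 := by
      clear h1 h2 heq hne
      induction mm with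
      | zero => simp [repW]
      | succ mm ih =>
        intro g hg
        rw [repW, List.mem_append] at hg
        exact hg.elim (hs4 v g) (ih g)
    obtain ⟨h5, h6⟩ := wd_smul h hr4 hx
    rw [h2, OneMemClass.coe_one, one_smul] at h6
    rw [← P_inj h hx h5 h6] at hne
    simp at hne
  rcases hm with hm | hm
  · rcases hv.1 n hn with hs | hbad
    · obtain ⟨z, hz, rfl⟩ := hs
      exact ⟨_, z, hz, by rw [hψ'A, hm, pow_one], hwZ⟩
    · exact (hkill _ (hm ▸ hbad)).elim
  · exact (hkill _ (hm ▸ hv.2 n hn)).elim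

theorem normal_eq (h : C.Ok) (hN : Nat.card C.Grp = C.N) (hfin : Finite C.Grp) {ψ ψ' : MulAut C.Grp} {i : ℕ}
    (h1 : C.Normal ψ i) (h2 : C.Normal ψ' i) : ψ = ψ' :=
  gen_ext h hN hfin (h1.1.trans h2.1.symm) (h1.2.trans h2.2.symm)

theorem normal_one (h : C.Ok) (hfx : C.FxOk) : C.Normal 1 C.zi := by
  have hrel := h.rel
  simp only [OCert.relOk, Bool.and_eq_true] at hrel
  refine ⟨rfl, ?_⟩
  rw [← eqW_spec h hfx hrel.2, wd_single]
  rfl

theorem mk_eq_of_conj {G : Type*} [Group G] (g : G) (φ : MulAut G) :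
    (QuotientGroup.mk (MulAut.conj g * φ) : Cfsg.Out G) = QuotientGroup.mk φ := by
  refine QuotientGroup.eq.2 ⟨φ.symm g⁻¹, MulEquiv.ext fun x => ?_⟩
  show φ.symm g⁻¹ * x * (φ.symm g⁻¹)⁻¹ = (MulAut.conj g * φ)⁻¹ (φ x)
  apply (MulAut.conj g * φ).injective
  rw [MulAut.apply_inv_self]
  simp [MulAut.mul_apply, MulAut.conj_apply, mul_assoc]

end CfsgLib.LeechOut
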