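/-
The order of the outer automorphism group from a checked certificate.
-/
import Cfsg.Agent.LeechOut.Main

set_option autoImplicit false

namespace CfsgLib.LeechOut

open Cfsg CfsgLib.Leech CfsgLib.Leech.Co3Mult CfsgLib.Golay MulAction

variable {C : OCert}

theorem fxOk_of (h : (C.fx.all fun f => inLeech (Val f)) = true) : C.FxOk := fun f hf =>
  ⟨⟨_, inLeech_spec (List.all_eq_true.1 h f hf)⟩, rfl⟩

theorem card_out_congr' {X Y : Type*} [Group X] [Group Y] (e : X ≃* Y) :
    Nat.card (Cfsg.Out X) = Nat.card (Cfsg.Out Y) := by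
  refine Nat.card_congr (QuotientGroup.congr (Cfsg.Inn X) (Cfsg.Inn Y) (MulAut.congr e) ?_).toEquiv
  ext β
  constructor
  · rintro ⟨_, ⟨x, rfl⟩, rfl⟩
    exact ⟨e x, MulEquiv.ext fun y => by simp [MulAut.congr, MulAut.conj_apply]⟩
  · rintro ⟨y, rfl⟩
    exact ⟨_, ⟨e.symm y, rfl⟩, MulEquiv.ext fun z => by simp [MulAut.congr, MulAut.conj_apply]⟩

theorem eqW_of (h : C.Ok) {w v : List ℕ} (hw : ∀ g ∈ w, g < 4) (hv : ∀ g ∈ v, g < 4) (e : C.wd w = C.wd v) :
    C.eqW w v = true := by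
  have hS := searchA_span h
  simp only [OCert.spanOk, Bool.and_eq_true, List.all_eq_true, Nat.blt_eq] at hS
  simp only [OCert.eqW, Bool.and_eq_true, List.all_eq_true, Nat.blt_eq, Nat.beq_eq]
  refine ⟨⟨hw, hv⟩, fun li hli => ?_⟩
  have hl := (hS.1.1.1.2 li hli).1
  have hb : C.spanA.base.getD li.1 0 < C.np := by
    rw [List.getD_eq_getElem _ _ hl]; exact hS.1.1.1.1.2 _ (List.getElem_mem hl)
  have hx := (itT_spec h (by norm_num : 0 < 4) li.2 hb).1
  obtain ⟨h1, e1⟩ := wd_smul h hw hx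
  obtain ⟨h2, e2⟩ := wd_smul h hv hx
  exact P_inj h h1 h2 (by rw [← e1, ← e2, e])

/-- No automorphism but the inner ones. -/
theorem card_out_one (h : C.Ok) (hfx : C.FxOk) (hN : Nat.card C.Grp = C.N) (hfin : Finite C.Grp)
    (hp : C.p.Prime) (hpd : C.p ∣ C.N) (hp2 : ¬ C.p ^ 2 ∣ C.N)
    (hkY : (C.known.all fun w => C.eqW (w ++ [1]) ([3] ++ w)) = true) (hs : C.surv = [C.zi]) :
    Nat.card (Cfsg.Out C.Grp) = 1 := by
  refine Nat.card_eq_one_iff_exists.2 ⟨QuotientGroup.mk 1, fun x => ?_⟩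
  obtain ⟨φ, rfl⟩ := QuotientGroup.mk_surjective x
  obtain ⟨g, i, hi, hn⟩ := normal_form h hfx hN hfin hp hpd hp2 (List.all_eq_true.1 hkY) φ
  rw [hs, List.mem_singleton] at hi
  subst hi
  rw [← mk_eq_of_conj g φ, normal_eq h hN hfin hn (normal_one h hfx)]

/-- One outer class. -/
theorem card_out_two (h : C.Ok) (hfx : C.FxOk) (hN : Nat.card C.Grp = C.N) (hfin : Finite C.Grp)
    (hp : C.p.Prime) (hpd : C.p ∣ C.N) (hp2 : ¬ C.p ^ 2 ∣ C.N)
    (hkY : (C.known.all fun w => C.eqW (w ++ [1]) ([3] ++ w)) = true) {z1 : ℕ}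
    (hs : ∀ i ∈ C.surv, i = C.zi ∨ i = z1) {θ : MulAut C.Grp} (hθ : C.Normal θ z1)
    (hz : (C.known.getD z1 []).all (fun g => Nat.blt g 4) = true)
    (hne : ((List.range C.p).all fun i =>
      !(C.eqW (List.replicate i 0 ++ [2]) (C.known.getD z1 [] ++ List.replicate i 0))) = true) :
    Nat.card (Cfsg.Out C.Grp) = 2 := by
  have hout : θ ∉ Cfsg.Inn C.Grp := by
    rintro ⟨g, rfl⟩
    obtain ⟨h0, h2⟩ := hθ
    rw [MulAut.conj_apply, mul_inv_eq_iff_eq_mul] at h0 h2
    have hknA : ∀ w ∈ (List.range C.p).map (fun i => List.replicate i 0), C.wd w * C.el 0 = C.el 0 * C.wd w := by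
      intro w hw
      obtain ⟨i, -, rfl⟩ := List.mem_map.1 hw
      rw [wd_replicate, ← pow_succ, ← pow_succ']
    obtain ⟨w, hw, rfl⟩ := search_spec h hfx (img_mem h hN hfin) (by norm_num : 0 < 4) (by norm_num : 0 < 4)
      h.searchA hknA h0
    obtain ⟨i, hi, rfl⟩ := List.mem_map.1 hw
    have := List.all_eq_true.1 hne i hi
    rw [eqW_of h ?_ ?_ ?_] at this
    · simp at this
    · intro a ha
      rcases List.mem_append.1 ha with ha | ha
      · rw [List.eq_of_mem_replicate ha]; norm_num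
      · rw [List.mem_singleton.1 ha]; norm_num
    · intro a ha
      rcases List.mem_append.1 ha with ha | ha
      · exact Nat.blt_eq.mp (List.all_eq_true.1 hz a ha)
      · rw [List.eq_of_mem_replicate ha]; norm_num
    · rw [wd_append, wd_append, wd_single]
      exact h2
  refine Nat.card_eq_two_iff.2 ⟨1, QuotientGroup.mk θ, fun e => hout ((QuotientGroup.eq_one_iff _).1 e.symm), ?_⟩
  refine Set.eq_univ_of_forall fun x => ?_
  obtain ⟨φ, rfl⟩ := QuotientGroup.mk_surjective x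
  obtain ⟨g, i, hi, hn⟩ := normal_form h hfx hN hfin hp hpd hp2 (List.all_eq_true.1 hkY) φ
  rw [← mk_eq_of_conj g φ]
  rcases hs i hi with rfl | rfl
  · exact Or.inl (by rw [normal_eq h hN hfin hn (normal_one h hfx)]; rfl)
  · exact Or.inr (by rw [normal_eq h hN hfin hn hθ]; rfl)

/-- Apply a word of matrices. -/
def apW (Ms : List (List ℕ)) : List ℕ → ℕ → ℕ
  | [], x => x
  | g :: r, x => ap (Ms.getD g []) (apW Ms r x)

/-- The test for a word of matrices. -/
def apWOk (Ms : List (List ℕ)) : List ℕ → ℕ → Bool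
  | [], x => wf x
  | g :: r, x => apWOk Ms r x && Nat.blt g 4 && apOk (Ms.getD g []) (apW Ms r x)

/-- The matrix carries the word `w` to the word `v`. -/
def carryOk (C : OCert) (T : List ℕ) (w v : List ℕ) : Bool :=
  (List.range 24).all fun j =>
    apWOk C.mats w (e8 j) && apOk T (apW C.mats w (e8 j)) && apOk T (e8 j) &&
      apWOk C.mats v (ap T (e8 j)) && Nat.beq (ap T (apW C.mats w (e8 j))) (apW C.mats v (ap T (e8 j)))

theorem el_lin (h : C.Ok) {g : ℕ} (hg : g < 4) (v : leechLattice) (p : GolayPt) :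
    8 * ((C.el g : Co0) • v).1 p = lin (C.mats.getD g []) v.1 p := by
  have := (exists_el h hg).choose_spec v p
  rwa [show (exists_el h hg).choose = C.el g by rw [OCert.el, dif_pos ⟨h, hg⟩]] at this

theorem apW_spec (h : C.Ok) : ∀ {w : List ℕ} {x : ℕ} {v : leechLattice}, apWOk C.mats w x = true → v.1 = Val x →
    wf (apW C.mats w x) = true ∧ ((C.wd w : Co0) • v).1 = Val (apW C.mats w x)
  | [], x, v, hok, hv => ⟨hok, by rw [wd_nil, OneMemClass.coe_one, one_smul]; exact hv⟩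
  | g :: r, x, v, hok, hv => by
    simp only [apWOk, Bool.and_eq_true, Nat.blt_eq] at hok
    obtain ⟨hw, hr⟩ := apW_spec h hok.1.1 hv
    have hm := h.mats
    simp only [OCert.matsOk, Bool.and_eq_true, List.all_eq_true, List.mem_range] at hm
    have hM : wfM (C.mats.getD g []) = true := by
      have := (hm.2 g hok.1.2).1
      simp only [matOk, Bool.and_eq_true] at this
      exact this.1.1.1.1.1.1
    obtain ⟨hw', hval⟩ := ap_spec hM hw hok.2
    refine ⟨hw', funext fun p => ?_⟩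
    rw [wd_cons, Subgroup.coe_mul, mul_smul]
    have h1 := el_lin h hok.1.2 ((C.wd r : Co0) • v) p
    rw [hr, ← hval] at h1
    show _ = Val (ap (C.mats.getD g []) (apW C.mats r x)) p
    omega

theorem carry_spec (h : C.Ok) {T : List ℕ} (hT : wfM T = true) {t : Co0}
    (ht : ∀ (v : leechLattice) (p : GolayPt), 8 * (t • v).1 p = lin T v.1 p) {w v : List ℕ}
    (hc : carryOk C T w v = true) : t * (C.wd w : Co0) * t⁻¹ = (C.wd v : Co0) := by
  rw [mul_inv_eq_iff_eq_mul]
  refine ext_eights fun i => Subtype.ext ?_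
  have hh := List.all_eq_true.1 hc (idx i).val (List.mem_range.2 (idx i).isLt)
  simp only [Bool.and_eq_true, Nat.beq_eq] at hh
  obtain ⟨⟨⟨⟨h1, h2⟩, h3⟩, h4⟩, h5⟩ := hh
  have he : (eight i).1 = Val (e8 (idx i).val) := funext fun p => by
    rw [e8_val]; simp [eight, Pi.single_apply]
  obtain ⟨a1, a2⟩ := apW_spec h h1 he
  have e3 : (t • eight i).1 = Val (ap T (e8 (idx i).val)) := funext fun p => by
    have e := (ap_spec hT (e8_wf i) h3).2 p
    rw [← he, ← ht] at e
    omega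
  obtain ⟨b1, b2⟩ := apW_spec h h4 e3
  rw [mul_smul, mul_smul, b2, ← h5]
  funext p
  have e := (ap_spec hT a1 h2).2 p
  rw [← a2, ← ht] at e
  omega

end CfsgLib.LeechOut
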