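/-
Checks bounding the automorphisms of the first Conway group: definitions.
-/
import Cfsg.Agent.LeechOut.Co1Data
import Cfsg.Agent.LeechOut.Count

set_option autoImplicit false

namespace CfsgLib.LeechOut.Co1

open CfsgLib.Leech CfsgLib.Leech.Co3Mult CfsgLib.Golay

/-- The matrices. -/
def Ms : List (List ℕ) := Co2.cert.mats ++ (dMats ++ [Co2.cert.invs.getD 0 []])
/-- Their transposes. -/
def Ns : List (List ℕ) := Co2.cert.invs ++ (dInvs ++ [Co2.cert.mats.getD 0 []])
/-- The fixed vector of the second group. -/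
def vP : ℕ := Co2.cert.fx.getD 0 0
/-- The candidates. -/
def cands : List (List ℕ) := (List.range 6).flatMap fun a => Co2.cert.known.map fun k => (4 + a) :: k

/-- The negative. -/
def negPk (y : ℕ) : ℕ := pkN 24 fun t => 16 - fld y t

/-- The weighted sum of the first columns, field by field. -/
def colF : ℕ → List ℕ → ℕ → ℕ
  | 0, _, _ => 0
  | n + 1, M, x => x % 65536 * M.headD 0 + colF n M.tail (x / 65536)

/-- The sum of the first fields, field by field. -/
def sumF : ℕ → ℕ → ℕ
  | 0, _ => 0
  | n + 1, x => x % 65536 + sumF n (x / 65536)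

/-- Small fields and nothing beyond them, field by field. -/
def wfF : ℕ → ℕ → Bool
  | 0, y => Nat.beq y 0
  | n + 1, y => Nat.ble (y % 65536) 16 && wfF n (y / 65536)

/-- The image of a packed vector, field by field. -/
def apF (M : List ℕ) (x : ℕ) : ℕ :=
  ((colF 24 M x + 1600 * ones) - (8 * sumF 24 x * ones + 8 * colSum M (fun _ => 1) 24)) / 8

/-- The test for one application, field by field. -/
def apOkF (M : List ℕ) (x : ℕ) : Bool :=
  let y := apF M x
  Nat.beq (colF 24 M x + 1600 * ones)
      (8 * y + (8 * sumF 24 x * ones + 8 * colSum M (fun _ => 1) 24)) && wfF 24 y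

/-- The image under a word, field by field. -/
def apX : List ℕ → ℕ → ℕ
  | [], x => x
  | g :: r, x => apF (Ms.getD g []) (apX r x)

theorem fld_succ (x t : ℕ) : fld x (t + 1) = fld (x / 65536) t := by
  simp only [fld, pow_succ', Nat.div_div_eq_div_mul]

theorem colF_eq : ∀ n (M : List ℕ) (x : ℕ),
    colF n M x = ∑ j ∈ Finset.range n, fld x j * M.getD j 0
  | 0, _, _ => rfl
  | n + 1, M, x => by
    rw [Finset.sum_range_succ', colF, colF_eq n, add_comm]
    refine congrArg₂ _ (Finset.sum_congr rfl fun j _ => ?_) (by cases M <;> simp [fld])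
    rw [fld_succ]
    cases M <;> simp

theorem colSum_eq (M : List ℕ) (d : ℕ → ℕ) :
    ∀ n, colSum M d n = ∑ j ∈ Finset.range n, d j * M.getD j 0
  | 0 => rfl
  | n + 1 => by rw [Finset.sum_range_succ, ← colSum_eq M d n]; rfl

theorem sumF_eq : ∀ n x, sumF n x = ∑ j ∈ Finset.range n, fld x j
  | 0, _ => rfl
  | n + 1, x => by
    rw [Finset.sum_range_succ', sumF, sumF_eq n, add_comm]
    refine congrArg₂ _ (Finset.sum_congr rfl fun j _ => by rw [fld_succ]) (by simp [fld])

theorem wfF_spec : ∀ n y, wfF n y = true → (∀ t < n, fld y t ≤ 16) ∧ pkN n (fld y) = y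
  | 0, y, h => ⟨fun t ht => absurd ht t.not_lt_zero, by simpa [wfF, pkN] using (Nat.eq_of_beq_eq_true h).symm⟩
  | n + 1, y, h => by
    simp only [wfF, Bool.and_eq_true, Nat.ble_eq] at h
    obtain ⟨h1, h2⟩ := wfF_spec n _ h.2
    refine ⟨fun t ht => ?_, ?_⟩
    · rcases t with _ | t
      · simpa [fld] using h.1
      · rw [fld_succ]; exact h1 t (by omega)
    · show fld y 0 + 65536 * pkN n (fun t => fld y (t + 1)) = y
      rw [pkN_congr n (g := fld (y / 65536)) fun t _ => fld_succ y t, h2]
      simp only [fld, pow_zero, Nat.div_one]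
      omega

theorem apF_eq (M : List ℕ) (x : ℕ) : apF M x = ap M x := by
  simp only [apF, ap, colF_eq, sumF_eq, colSum_eq, fldSum_eq]

theorem apX_eq : ∀ w x, apX w x = apW Ms w x
  | [], _ => rfl
  | g :: r, x => by rw [apX, apF_eq, apX_eq r]; rfl

theorem apOkF_spec {M : List ℕ} {x : ℕ} (h : apOkF M x = true) : apOk M x = true := by
  simp only [apOkF, Bool.and_eq_true, Nat.beq_eq, apF_eq, colF_eq, sumF_eq] at h
  simp only [apOk, wf, Bool.and_eq_true, Nat.beq_eq, List.all_eq_true, List.mem_range, Nat.ble_eq,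
    colSum_eq M (fld x), fldSum_eq]
  exact ⟨h.1, wfF_spec 24 _ h.2⟩

/-- The test for a word. -/
def okX : List ℕ → ℕ → Bool
  | [], x => wf x
  | g :: r, x => okX r x && Nat.blt g 11 && apOkF (Ms.getD g []) (apX r x)

/-- Substitution for three letters. -/
def sub3 (S : List (List ℕ)) : List ℕ → List ℕ
  | [] => []
  | g :: r => S.getD g [] ++ sub3 S r

/-- The six matrices preserve the lattice. -/
def dOk : Bool :=
  Nat.beq dMats.length 6 && matOk (Co2.cert.invs.getD 0 []) (Co2.cert.mats.getD 0 []) &&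
    (List.range 6).all fun i => matOk (dMats.getD i []) (dInvs.getD i [])

/-- Two words agree. -/
def eqX (w v : List ℕ) : Bool :=
  (List.range 24).all fun j => okX w (e8 j) && okX v (e8 j) && Nat.beq (apX w (e8 j)) (apX v (e8 j))

/-- A word is central. -/
def scalarX (w : List ℕ) : Bool :=
  ((List.range 24).all fun j => okX w (e8 j) && Nat.beq (apX w (e8 j)) (e8 j)) ||
    ((List.range 24).all fun j => okX w (e8 j) && Nat.beq (apX w (e8 j)) (negPk (e8 j)))

/-- A word is not central. -/
def movesX (w : List ℕ) (y : ℕ) : Bool :=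
  inLeech (Val y) && okX w y && !(Nat.beq (apX w y) y) && !(Nat.beq (apX w y) (negPk y))

/-- A candidate is excluded. -/
def verdX (T S : List (List ℕ)) (V : List ℕ × ℕ × ℕ) : Bool :=
  scalarX (repW (sub3 T V.1) V.2.1) && movesX (repW (sub3 S V.1) V.2.1) V.2.2

/-- The orders listed for the words. -/
def wkOk (T : List (List ℕ)) (L : List (List ℕ × ℕ)) : Bool :=
  L.all fun p => scalarX (repW (sub3 T p.1) p.2)

/-- A candidate is excluded, given the orders of the words. -/
def verdL (L : List (List ℕ × ℕ)) (S : List (List ℕ)) (V : List ℕ × ℕ × ℕ) : Bool :=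
  (L.any fun p => p.1 == V.1 && Nat.beq p.2 V.2.1) && movesX (repW (sub3 S V.1) V.2.1) V.2.2

theorem verdX_of {T S : List (List ℕ)} {L : List (List ℕ × ℕ)} {V : List ℕ × ℕ × ℕ} (hL : wkOk T L = true)
    (h : verdL L S V = true) : verdX T S V = true := by
  simp only [verdL, Bool.and_eq_true, List.any_eq_true, beq_iff_eq, Nat.beq_eq] at h
  obtain ⟨⟨p, hp, e1, e2⟩, hm⟩ := h
  have := List.all_eq_true.1 hL p hp
  simp only [verdX, Bool.and_eq_true]
  exact ⟨e1 ▸ e2 ▸ this, hm⟩

/-- The listed fixed vectors. -/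
def fixesOk : Bool :=
  Nat.beq fixes.length 6 && (List.range 6).all fun a =>
    inLeech (Val (fixes.getD a 0)) && okX [1] (fixes.getD a 0) &&
      Nat.beq (apX [1] (fixes.getD a 0)) (fixes.getD a 0) && okX [4 + a] vP &&
      Nat.beq (apX [4 + a] vP) (fixes.getD a 0) && eqX [4 + a, 1] [1, 4 + a]

/-- The sum of the images under powers, at one index. -/
def sumPow (g : ℕ) (x t : ℕ) : ℕ → ℤ
  | 0 => 0
  | n + 1 => sumPow g x t n + ((fld (apX (List.replicate n g) x) t : ℤ) - 8)

/-- A projection is correct. -/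
def projOk (g N d : ℕ) (F : List ℕ) (P : List (List ℤ)) : Bool :=
  (List.range 24).all fun q => (List.range N).all (fun n => okX (List.replicate n g) (e8 q)) &&
    (List.range 24).all fun t => (d : ℤ) * sumPow g (e8 q) t N == lcAt t (P.getD q []) F

/-- The basis of the fixed space. -/
def basisF : List ℕ := basisY.map fun i => fixes.getD i 0

/-- An inner product of two packed vectors. -/
def dotP (x y : ℕ) : ℤ :=
  ((List.range 24).map fun t => ((fld x t : ℤ) - 8) * ((fld y t : ℤ) - 8)).sum

/-- The possible inner products. -/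
def dVals : List ℤ := [32, 16, 8, 0, -8, -16, -32]

/-- A quadruple. -/
def quad (d0 d1 d2 d3 : ℤ) : ℤ :=
  let a := fun i j => (adjY.getD i []).getD j 0
  d0 * (a 0 0 * d0 + a 0 1 * d1 + a 0 2 * d2 + a 0 3 * d3) +
  d1 * (a 1 0 * d0 + a 1 1 * d1 + a 1 2 * d2 + a 1 3 * d3) +
  d2 * (a 2 0 * d0 + a 2 1 * d1 + a 2 2 * d2 + a 2 3 * d3) +
  d3 * (a 3 0 * d0 + a 3 1 * d1 + a 3 2 * d2 + a 3 3 * d3)

/-- Every solution is listed. -/
def boxOk : Bool :=
  dVals.all fun d0 => dVals.all fun d1 => dVals.all fun d2 => dVals.all fun d3 =>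
    !(quad d0 d1 d2 d3 == 32 * detY) ||
      sigY.any fun s => s == [d0, d1, d2, d3] || s == [-d0, -d1, -d2, -d3]

/-- The adjugate. -/
def adjOk : Bool :=
  (List.range 4).all fun i => (List.range 4).all fun l =>
    ((List.range 4).map fun k => (adjY.getD i []).getD k 0 * dotP (basisF.getD k 0) (basisF.getD l 0)).sum ==
      (bif Nat.beq i l then detY else 0)

end CfsgLib.LeechOut.Co1
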