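/-
Kernel checks bounding the automorphisms of the first Conway group.
-/
import Cfsg.Agent.LeechOut.Co1Check

set_option autoImplicit false
set_option maxRecDepth 100000
set_option Elab.async false
set_option maxHeartbeats 0

namespace CfsgLib.LeechOut.Co1

open CfsgLib.Leech CfsgLib.Leech.Co3Mult CfsgLib.Golay

theorem d_ok : dOk = true := by decide +kernel

theorem fixes_ok : fixesOk = true := by decide +kernel

theorem projA_ok : projOk 0 23 dA [vP, fA] projA = true := by decide +kernel

theorem projY_ok : projOk 1 11 dY basisF projY = true := by decide +kernel

theorem adj_ok : adjOk = true := by decide +kernel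

theorem box_ok : boxOk = true := by decide +kernel

theorem sig_ok : sigY = fixes.map fun x => basisF.map fun f => dotP f x := by decide +kernel

theorem fA_ok : dA = 1 ∧ dotP vP vP = 32 ∧ dotP vP fA = 0 ∧ dotP fA fA = 46 := by decide +kernel

theorem orb_ok : orbWords.length = 3 ∧
    ((List.range 3).all fun i => okX (sub3 [[0], [2], zWord] (orbWords.getD i [])) vP &&
      ((dotP vP (apX (sub3 [[0], [2], zWord] (orbWords.getD i [])) vP)).natAbs == [16, 8, 0].getD i 1)) = true := by
  decide +kernel

theorem zc_ok : zc < cands.length ∧ eqX [2] (cands.getD zc []) = true := by decide +kernel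

theorem zOne_ok : zOne < cands.length ∧ eqX zWord (cands.getD zOne []) = true := by decide +kernel

theorem inv_ok : eqX [10, 0] [] = true := by decide +kernel

end CfsgLib.LeechOut.Co1
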