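/-
Kernel checks bounding the automorphisms of the first Conway group.
-/
import Cfsg.Agent.LeechOut.Co1Check

set_option autoImplicit false
set_option maxRecDepth 100000
set_option Elab.async false
set_option maxHeartbeats 0

namespace CfsgLib.LeechOut.Co1

open CfsgLib.Leech CfsgLib.Leech.Co3Mult CfsgLib.Golay

theorem one_wk : wkOk [[0], [2]] [([0, 0, 0, 0, 1], 11), ([0, 0, 0, 1, 0, 1], 7), ([1, 1], 1)] = true := by decide +kernel

theorem one_moves : ((List.range cands.length).all fun i =>
    Nat.beq i zc || verdL [([0, 0, 0, 0, 1], 11), ([0, 0, 0, 1, 0, 1], 7), ([1, 1], 1)] [[0], cands.getD i []] (verdOne.getD i ([], 0, 0))) = true := by decide +kernel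

theorem one_ok : ((List.range cands.length).all fun i =>
    Nat.beq i zc || verdX [[0], [2]] [[0], cands.getD i []] (verdOne.getD i ([], 0, 0))) = true := by
  rw [List.all_eq_true]
  intro i hi
  have h := List.all_eq_true.1 one_moves i hi
  rw [Bool.or_eq_true] at h ⊢
  exact h.imp_right (verdX_of one_wk)

end CfsgLib.LeechOut.Co1
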