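/-
Kernel checks bounding the automorphisms of the first Conway group.
-/
import Cfsg.Agent.LeechOut.Co1Check

set_option autoImplicit false
set_option maxRecDepth 100000
set_option Elab.async false
set_option maxHeartbeats 0

namespace CfsgLib.LeechOut.Co1

open CfsgLib.Leech CfsgLib.Leech.Co3Mult CfsgLib.Golay

theorem two_wk : wkOk [[0], [2], zWord] [([0, 0, 1, 1, 2], 4), ([0, 0, 1, 2, 1, 2, 1], 6)] = true := by decide +kernel

theorem two_moves : ((List.range cands.length).all fun i =>
    Nat.beq i zOne || verdL [([0, 0, 1, 1, 2], 4), ([0, 0, 1, 2, 1, 2, 1], 6)] [[0], [2], cands.getD i []] (verdTwo.getD i ([], 0, 0))) = true := by decide +kernel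

theorem two_ok : ((List.range cands.length).all fun i =>
    Nat.beq i zOne || verdX [[0], [2], zWord] [[0], [2], cands.getD i []] (verdTwo.getD i ([], 0, 0))) = true := by
  rw [List.all_eq_true]
  intro i hi
  have h := List.all_eq_true.1 two_moves i hi
  rw [Bool.or_eq_true] at h ⊢
  exact h.imp_right (verdX_of two_wk)

end CfsgLib.LeechOut.Co1
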