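/-
Kernel checks of generation, bounding the automorphisms of the group Co2.
-/
import Cfsg.Agent.LeechOut.Co2Data

set_option autoImplicit false
set_option maxRecDepth 100000
set_option Elab.async false

namespace CfsgLib.LeechOut.Co2

theorem lev0_ok : cert.levOne [perm0, perm2] lev0 = true := by decide +kernel
theorem lev1_ok : cert.levOne lev0.tabs lev1 = true := by decide +kernel
theorem lev2_ok : cert.levOne lev1.tabs lev2 = true := by decide +kernel
theorem lev3_ok : cert.levOne lev2.tabs lev3 = true := by decide +kernel
theorem lev4_ok : cert.levOne lev3.tabs lev4 = true := by decide +kernel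
theorem prod_ok : Nat.beq (cert.levels.map Lev.len).prod cert.N = true := by decide +kernel

theorem gen_ok : cert.genOk = true := by
  show ((cert.levOne [perm0, perm2] lev0 && (cert.levOne lev0.tabs lev1 && (cert.levOne lev1.tabs lev2 &&
    (cert.levOne lev2.tabs lev3 && (cert.levOne lev3.tabs lev4 && true))))) &&
      Nat.beq (cert.levels.map Lev.len).prod cert.N) = true
  rw [lev0_ok, lev1_ok, lev2_ok, lev3_ok, lev4_ok, prod_ok]
  rfl

end CfsgLib.LeechOut.Co2
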