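/-
Kernel checks of the points, bounding the automorphisms of the group Co2.
-/
import Cfsg.Agent.LeechOut.Co2Data


set_option autoImplicit false
set_option maxRecDepth 100000
set_option Elab.async false

namespace CfsgLib.LeechOut.Co2

open CfsgLib.Leech CfsgLib.Leech.Co3Mult CfsgLib.Golay

theorem mats_ok : cert.matsOk = true := by decide +kernel
/-- The test of one point. -/
def ptOne (i : ℕ) : Bool :=
  wf (cert.pt i) && inLeech (Val (cert.pt i)) &&
    Nat.beq (tb cert.revs i) (pkN 24 fun t => fld (cert.pt i) (23 - t)) &&
    Nat.beq (tb cert.sums i) (fldSum (cert.pt i) 24) &&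
    (Nat.beq (i + 1) cert.np || Nat.blt (cert.pt i) (cert.pt (i + 1)))

theorem pts0 : (List.range' 0 1150).all ptOne = true := by decide +kernel
theorem pts1 : (List.range' 1150 1150).all ptOne = true := by decide +kernel
theorem pts2 : (List.range' 2300 1150).all ptOne = true := by decide +kernel
theorem pts3 : (List.range' 3450 1150).all ptOne = true := by decide +kernel
theorem np_split : List.range cert.np =
    List.range' 0 1150 ++ List.range' 1150 1150 ++ List.range' 2300 1150 ++ List.range' 3450 1150 := by decide +kernel

theorem pts_ok : cert.ptsOk = true := by
  show (List.range cert.np).all ptOne = true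
  rw [np_split, List.all_append, List.all_append, List.all_append, pts0, pts1, pts2, pts3]
  rfl

theorem perm0_ok : cert.permOk 0 = true := by decide +kernel
theorem perm1_ok : cert.permOk 1 = true := by decide +kernel
theorem perm2_ok : cert.permOk 2 = true := by decide +kernel
theorem perm3_ok : cert.permOk 3 = true := by decide +kernel
end CfsgLib.LeechOut.Co2
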