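/-
A centraliser search through listed candidates.
-/
import Cfsg.Agent.LeechOut.Main

set_option autoImplicit false

namespace CfsgLib.LeechOut

variable (C : OCert)

/-- The search through listed candidates. -/
def OCert.enumC (g h : Tab) (ord : ℕ) : List ℕ → List (List ℕ) → List (List ℕ)
  | r :: S, cand :: K => (OCert.enumC g h ord S K).flatMap fun cs =>
      (cand.filter fun x => C.okI g h ord r x (S.zip cs)).map (· :: cs)
  | _, _ => [[]]

/-- A candidate passes the test against itself. -/
def OCert.selfOk (g h : Tab) (ord r x : ℕ) : Bool :=
  C.okI g h ord r x [(r, x)]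

theorem enum_eq (g h : Tab) (ord : ℕ) : ∀ (B : List ℕ) (K : List (List ℕ)),
    List.Forall₂ (fun r cand => cand = (List.range C.np).filter (C.selfOk g h ord r)) B K →
    C.enumI g h ord B = C.enumC g h ord B K
  | [], _, hf => by cases hf; rfl
  | r :: S, _, hf => by
    obtain ⟨cand, K, rfl, hK, rfl⟩ := List.forall₂_cons_left_iff.1 hf
    rw [OCert.enumI, OCert.enumC, enum_eq g h ord S K hK]
    congr 1
    funext cs
    rw [List.filter_filter]
    congr 1
    refine List.filter_congr fun x _ => ?_
    simp only [OCert.selfOk, OCert.okI, List.all_cons, List.all_nil, Bool.and_true]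
    exact Bool.and_comm _ _

/-- The search, with listed candidates. -/
def OCert.narrowOk (S : Span) (g h ord : ℕ) (K : List (List ℕ)) (known : List (List ℕ)) : Bool :=
  C.spanOk S g ord && known.all (fun w => w.all fun x => Nat.blt x 4) &&
  (C.enumC (C.perms.getD g []) (C.perms.getD h []) ord S.base K).all fun im =>
    C.killed S (C.perms.getD h []) im || known.any fun w => im == S.base.map (evW C.perms w)

theorem searchOk_of {S : Span} {g h ord : ℕ} {K : List (List ℕ)} {known : List (List ℕ)}
    (hn : C.narrowOk S g h ord K known = true)
    (hf : List.Forall₂ (fun r cand => cand = (List.range C.np).filter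
      (C.selfOk (C.perms.getD g []) (C.perms.getD h []) ord r)) S.base K) :
    C.searchOk S g h ord known = true := by
  rw [OCert.searchOk, enum_eq C _ _ ord S.base K hf]
  exact hn

end CfsgLib.LeechOut
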