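/-
Kernel checks bounding the automorphisms of the group Co2.
-/
import Cfsg.Agent.LeechOut.Co2Data
import Cfsg.Agent.LeechOut.Narrow
import Cfsg.Agent.LeechOut.Co2ChkGen
import Cfsg.Agent.LeechOut.Co2ChkPts

set_option autoImplicit false
set_option maxRecDepth 100000
set_option Elab.async false

namespace CfsgLib.LeechOut.Co2

theorem rel_ok : cert.relOk = true := by decide +kernel
theorem searchA_ok :
    cert.searchOk cert.spanA 0 0 cert.p ((List.range cert.p).map fun i => List.replicate i 0) = true := by
  decide +kernel
theorem cand0_ok : candY0 = (List.range cert.np).filter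
    (cert.selfOk (cert.perms.getD 1 []) (cert.perms.getD 3 []) cert.q (spanY.base.getD 0 0)) := by decide +kernel
theorem cand1_ok : candY1 = (List.range cert.np).filter
    (cert.selfOk (cert.perms.getD 1 []) (cert.perms.getD 3 []) cert.q (spanY.base.getD 1 0)) := by decide +kernel
theorem cand2_ok : candY2 = (List.range cert.np).filter
    (cert.selfOk (cert.perms.getD 1 []) (cert.perms.getD 3 []) cert.q (spanY.base.getD 2 0)) := by decide +kernel
theorem narrow_ok : cert.narrowOk cert.spanY 1 3 cert.q [candY0, candY1, candY2] cert.known = true := by decide +kernel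

theorem searchY_ok : cert.searchOk cert.spanY 1 3 cert.q cert.known = true :=
  searchOk_of cert narrow_ok (List.Forall₂.cons cand0_ok (List.Forall₂.cons cand1_ok (List.Forall₂.cons cand2_ok List.Forall₂.nil)))
theorem verdOne_ok : ((List.range cert.known.length).all fun i =>
    cert.surv.any (fun j => Nat.beq j i) || cert.verdictOk 1 i (cert.verdOne.getD i ([], 0, 0))) = true := by decide +kernel
theorem verdNeg_ok : ((List.range cert.known.length).all fun i =>
    cert.verdictOk (cert.p - 1) i (cert.verdNeg.getD i ([], 0, 0))) = true := by decide +kernel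
theorem verds_ok : cert.verdsOk = true := Bool.and_eq_true_iff.mpr ⟨verdOne_ok, verdNeg_ok⟩

theorem ok : cert.Ok :=
  ⟨mats_ok, pts_ok, perm0_ok, perm1_ok, perm2_ok, perm3_ok, gen_ok, rel_ok, searchA_ok, searchY_ok, verds_ok⟩

end CfsgLib.LeechOut.Co2
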