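/-
The outer automorphism group of the second Conway group is trivial.
-/
import Cfsg.Agent.LeechOut.Co2Chk
import Cfsg.Agent.LeechOut.Count
import Cfsg.Agent.Leech.StabOrder
import Cfsg.Prelude.Def_Spor_Conway

set_option autoImplicit false
set_option maxRecDepth 100000

namespace CfsgLib.LeechOut.Co2

open Cfsg CfsgLib.Leech CfsgLib.Leech.Co3Mult CfsgLib.Golay MulAction

theorem fx_ok : (cert.fx.all fun f => inLeech (Val f)) = true := by decide +kernel
theorem hkY : (cert.known.all fun w => cert.eqW (w ++ [1]) ([3] ++ w)) = true := by decide +kernel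

theorem fx_val : ∀ f ∈ cert.fx, ∀ p, Val f p = Spor.vecU p := by decide +kernel
theorem fx_mem : ∃ f ∈ cert.fx, ∀ p, Val f p = Spor.vecU p := by decide +kernel
theorem norm_u : sqNorm Spor.vecU = 32 := by decide +kernel

theorem grp_eq : cert.Grp = stabilizer Co0 Spor.leechU := by
  ext g
  constructor
  · intro h
    obtain ⟨f, hf, hv⟩ := fx_mem
    exact mem_stabilizer_iff.2 (h f hf Spor.leechU (funext fun p => (hv p).symm))
  · intro h f hf v hv
    rw [show v = Spor.leechU from Subtype.ext (hv.trans (funext (fx_val f hf)))]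
    exact mem_stabilizer_iff.1 h

/-- The stabiliser in the automorphism group is the second Conway group. -/
noncomputable def equivSpor : ↥Spor.Co2 ≃* (stabilizer Co0 Spor.leechU : Subgroup Co0) where
  toFun g := ⟨⟨g.1, (Subgroup.mem_inf.1 g.2).1⟩, mem_stabilizer_iff.2
    (show g.1 Spor.leechU = Spor.leechU from mem_stabilizer_iff.1 (Subgroup.mem_inf.1 g.2).2)⟩
  invFun g := ⟨(g : Co0).1, Subgroup.mem_inf.2 ⟨(g : Co0).2, mem_stabilizer_iff.2
    (show (g : Co0).1 Spor.leechU = Spor.leechU from mem_stabilizer_iff.1 g.2)⟩⟩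
  left_inv _ := rfl
  right_inv _ := rfl
  map_mul' _ _ := rfl

theorem card_out : Nat.card (Cfsg.Out ↥Spor.Co2) = 1 := by
  have hc : Nat.card (stabilizer Co0 Spor.leechU) = 42305421312000 := card_stab32 norm_u
  have hN : Nat.card cert.Grp = cert.N := by rw [grp_eq, hc]; rfl
  have hfin : Finite cert.Grp := by rw [grp_eq]; exact Nat.finite_of_card_ne_zero (by rw [hc]; omega)
  rw [card_out_congr' (equivSpor.trans (MulEquiv.subgroupCongr grp_eq.symm))]
  exact card_out_one ok (fxOk_of fx_ok) hN hfin (by norm_num [cert]) (by norm_num [cert]) (by norm_num [cert]) hkY rfl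

end CfsgLib.LeechOut.Co2
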