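/-
The outer automorphism group of the first Conway group is trivial.
-/
import Cfsg.Agent.LeechOut.Co1Chk
import Cfsg.Agent.LeechOut.Co1ChkOne
import Cfsg.Agent.LeechOut.Co1ChkNeg
import Cfsg.Agent.LeechOut.Co1ChkTwo
import Cfsg.Agent.LeechOut.Co2Main
import Cfsg.Agent.Leech.Co1

set_option autoImplicit false
set_option maxRecDepth 100000

namespace CfsgLib.LeechOut.Co1

open Cfsg CfsgLib.Leech CfsgLib.Leech.Co3Mult CfsgLib.Golay MulAction
open scoped Pointwise

/-- The group of the second certificate. -/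
abbrev C2 : OCert := Co2.cert

theorem ok2 : C2.Ok := Co2.ok

theorem fx2 : C2.FxOk := fxOk_of Co2.fx_ok

theorem card2 : Nat.card C2.Grp = C2.N := by
  rw [Co2.grp_eq, card_stab32 Co2.norm_u]; rfl

theorem fin2 : Finite C2.Grp := Nat.finite_of_card_ne_zero (by rw [card2]; decide +kernel)

theorem base_ok : inLeech (Val vP) = true ∧ sqNorm (Val vP) = 32 ∧ C2.fx = [vP] ∧ wf vP = true ∧ C2.s = 10 := by
  decide +kernel

/-- The fixed vector. -/
def V : leechLattice := ⟨_, inLeech_spec base_ok.1⟩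

theorem V_val : V.1 = Val vP := rfl

theorem mem_grp {g : Co0} : g ∈ C2.Grp ↔ g • V = V := by
  constructor
  · intro h; exact h vP (by rw [base_ok.2.2.1]; simp) V rfl
  · intro h f hf v hv
    rw [base_ok.2.2.1, List.mem_singleton] at hf
    subst hf
    rw [show v = V from Subtype.ext hv]
    exact h

theorem Ms_old {i : ℕ} (hi : i < 4) : Ms.getD i [] = C2.mats.getD i [] ∧ Ns.getD i [] = C2.invs.getD i [] := by
  obtain rfl | rfl | rfl | rfl : i = 0 ∨ i = 1 ∨ i = 2 ∨ i = 3 := by omega
  all_goals exact ⟨rfl, rfl⟩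

theorem Ms_new {i : ℕ} (hi : i < 6) : Ms.getD (4 + i) [] = dMats.getD i [] ∧ Ns.getD (4 + i) [] = dInvs.getD i [] := by
  obtain rfl | rfl | rfl | rfl | rfl | rfl : i = 0 ∨ i = 1 ∨ i = 2 ∨ i = 3 ∨ i = 4 ∨ i = 5 := by omega
  all_goals exact ⟨rfl, rfl⟩

theorem mat_ok {i : ℕ} (hi : i < 11) : matOk (Ms.getD i []) (Ns.getD i []) = true := by
  by_cases h10 : i = 10
  · subst h10
    have hd := d_ok
    simp only [dOk, Bool.and_eq_true] at hd
    exact hd.1.2
  by_cases h4 : i < 4
  · have hm := ok2.mats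
    simp only [OCert.matsOk, Bool.and_eq_true, List.all_eq_true, List.mem_range] at hm
    rw [(Ms_old h4).1, (Ms_old h4).2]
    exact (hm.2 i h4).1
  · obtain ⟨a, rfl⟩ : ∃ a, i = 4 + a := ⟨i - 4, by omega⟩
    have hd := d_ok
    simp only [dOk, Bool.and_eq_true, List.all_eq_true, List.mem_range] at hd
    rw [(Ms_new (by omega)).1, (Ms_new (by omega)).2]
    exact hd.2 a (by omega)

theorem wfM_ok {i : ℕ} (hi : i < 11) : wfM (Ms.getD i []) = true := by
  have := mat_ok hi
  simp only [matOk, Bool.and_eq_true] at this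
  exact this.1.1.1.1.1.1

open Classical in
/-- An element of the list. -/
noncomputable def gg (i : ℕ) : Co0 := if h : i < 11 then (exists_aut (mat_ok h)).choose else 1

theorem gg_lin {i : ℕ} (hi : i < 11) (v : leechLattice) (p : GolayPt) :
    8 * (gg i • v).1 p = lin (Ms.getD i []) v.1 p := by
  rw [gg, dif_pos hi]
  exact (exists_aut (mat_ok hi)).choose_spec v p

theorem gg_old {i : ℕ} (hi : i < 4) : gg i = (C2.el i : Co0) := by
  refine ext_eights fun j => Subtype.ext (funext fun p => ?_)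
  have h1 := gg_lin (show i < 11 by omega) (eight j) p
  have h2 := el_lin ok2 hi (eight j) p
  rw [(Ms_old hi).1] at h1
  omega

/-- Value of a word. -/
noncomputable def W (w : List ℕ) : Co0 := (w.map gg).prod

theorem W_nil : W [] = 1 := rfl
theorem W_cons (g : ℕ) (w : List ℕ) : W (g :: w) = gg g * W w := by simp [W]
theorem W_single (g : ℕ) : W [g] = gg g := by simp [W]
theorem W_append (w v : List ℕ) : W (w ++ v) = W w * W v := by simp [W]
theorem W_replicate (n g : ℕ) : W (List.replicate n g) = gg g ^ n := by simp [W]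
theorem W_repW (w : List ℕ) : ∀ m, W (repW w m) = W w ^ m
  | 0 => rfl
  | m + 1 => by rw [repW, W_append, W_repW w m, pow_succ']

theorem W_old : ∀ {w : List ℕ}, (∀ g ∈ w, g < 4) → W w = (C2.wd w : Co0)
  | [], _ => rfl
  | g :: r, h => by
    rw [W_cons, wd_cons, Subgroup.coe_mul, gg_old (h g List.mem_cons_self),
      W_old (w := r) fun x hx => h x (List.mem_cons_of_mem _ hx)]

theorem okX_spec : ∀ {w : List ℕ} {x : ℕ} {v : leechLattice}, okX w x = true → v.1 = Val x →
    wf (apX w x) = true ∧ (W w • v).1 = Val (apX w x)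
  | [], x, v, hok, hv => ⟨hok, by rw [W_nil, one_smul]; exact hv⟩
  | g :: r, x, v, hok, hv => by
    simp only [okX, Bool.and_eq_true, Nat.blt_eq] at hok
    obtain ⟨hw, hr⟩ := okX_spec hok.1.1 hv
    obtain ⟨hw', hval⟩ := ap_spec (wfM_ok hok.1.2) hw (apOkF_spec hok.2)
    rw [← apF_eq] at hw' hval
    refine ⟨by rw [apX]; exact hw', funext fun p => ?_⟩
    rw [W_cons, mul_smul]
    have h1 := gg_lin hok.1.2 (W r • v) p
    rw [hr, ← hval] at h1
    rw [apX]
    omega

theorem eight_val (i : GolayPt) : (eight i).1 = Val (e8 (idx i).val) := funext fun p => by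
  rw [e8_val]; simp [eight, Pi.single_apply]

theorem eqX_spec {w v : List ℕ} (h : eqX w v = true) : W w = W v := by
  refine ext_eights fun i => Subtype.ext ?_
  have hh := List.all_eq_true.1 h (idx i).val (List.mem_range.2 (idx i).isLt)
  simp only [Bool.and_eq_true, Nat.beq_eq] at hh
  rw [(okX_spec hh.1.1 (eight_val i)).2, (okX_spec hh.1.2 (eight_val i)).2, hh.2]

theorem negPk_val {y : ℕ} (hy : wf y = true) : Val (negPk y) = -Val y := by
  funext p
  show ((fld (negPk y) (idx p).val : ℕ) : ℤ) - 8 = -(((fld y (idx p).val : ℕ) : ℤ) - 8)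
  rw [negPk, fld_pkN 24 _ (fun t _ => by omega) _ (idx p).isLt]
  have := (wf_spec hy).1 _ (idx p).isLt
  omega

/-- The quotient map. -/
abbrev pr : Co0 →* Spor.Co1 := QuotientGroup.mk' (Subgroup.center Co0)

theorem pr_negOne : pr negOne = 1 := (QuotientGroup.eq_one_iff _).2 negOne_central

theorem lift_rel' {x y : Co0} (h : pr x = pr y) : x = y ∨ x = negOne * y := by
  rcases center_eq _ (QuotientGroup.eq.1 h.symm) with e | e
  · exact Or.inl (inv_mul_eq_one.1 e).symm
  · refine Or.inr ?_
    rw [← Subgroup.mem_center_iff.1 negOne_central y, ← e, mul_inv_cancel_left]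

theorem scalarX_spec {w : List ℕ} (h : scalarX w = true) : pr (W w) = 1 := by
  simp only [scalarX, Bool.or_eq_true, List.all_eq_true, List.mem_range, Bool.and_eq_true, Nat.beq_eq] at h
  rcases h with h | h
  · rw [show W w = 1 from ext_eights fun i => Subtype.ext (by
      obtain ⟨h1, h2⟩ := h _ (idx i).isLt
      rw [(okX_spec h1 (eight_val i)).2, h2, one_smul, eight_val]), map_one]
  · rw [show W w = negOne from ext_eights fun i => Subtype.ext (by
      obtain ⟨h1, h2⟩ := h _ (idx i).isLt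
      rw [(okX_spec h1 (eight_val i)).2, h2, show negOne • eight i = -eight i from negOne_apply _,
        AddSubgroup.coe_neg, eight_val, negPk_val (e8_wf i)]), pr_negOne]

theorem movesX_spec {w : List ℕ} {y : ℕ} (h : movesX w y = true) : pr (W w) ≠ 1 := by
  simp only [movesX, Bool.and_eq_true, Bool.not_eq_true'] at h
  obtain ⟨⟨⟨hy, hok⟩, h1⟩, h2⟩ := h
  let v : leechLattice := ⟨_, inLeech_spec hy⟩
  obtain ⟨hw, hv⟩ := okX_spec (v := v) hok rfl
  have hwy : wf y = true := by
    have : ∀ (w : List ℕ), okX w y = true → wf y = true := by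
      intro w
      induction w with
      | nil => exact fun h => h
      | cons g r ih => intro h; simp only [okX, Bool.and_eq_true] at h; exact ih h.1.1
    exact this _ hok
  intro e
  rcases lift_rel' (e.trans (map_one pr).symm) with e' | e'
  · rw [e', one_smul] at hv
    rw [← eq_of_Val hwy hw hv] at h1
    simp at h1
  · rw [e', mul_one, show negOne • v = -v from negOne_apply _, AddSubgroup.coe_neg] at hv
    have hnw : wf (negPk y) = true → False := fun hn => by
      rw [← eq_of_Val hn hw ((negPk_val hwy).trans hv)] at h2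
      simp at h2
    refine hnw ?_
    have hb := (wf_spec hwy).1
    have hlt : ∀ t < 24, (fun t => 16 - fld y t) t < 65536 := fun t _ => by
      show 16 - fld y t < 65536
      omega
    simp only [wf, Bool.and_eq_true, List.all_eq_true, List.mem_range, Nat.ble_eq, Nat.beq_eq]
    refine ⟨fun t ht => ?_, ?_⟩
    · rw [negPk, fld_pkN 24 _ hlt t ht]; omega
    · exact pkN_congr 24 fun t ht => by rw [negPk, fld_pkN 24 _ hlt t ht]

/-! ### Fixed vectors -/

theorem sumPow_spec (g : ℕ) (x : ℕ) (v : leechLattice) (hv : v.1 = Val x) (p : GolayPt) :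
    ∀ N, (∀ n < N, okX (List.replicate n g) x = true) →
      sumPow g x (idx p).val N = ∑ n ∈ Finset.range N, (gg g ^ n • v).1 p
  | 0, _ => rfl
  | N + 1, h => by
    rw [Finset.sum_range_succ, ← sumPow_spec g x v hv p N (fun n hn => h n (by omega)), ← W_replicate,
      (okX_spec (h N (by omega)) hv).2]
    rfl

theorem lcAt_sum {ι : Type*} (s : Finset ι) (a : ι → ℤ) (c : ι → List ℤ) (t : ℕ) (n : ℕ) (F : List ℕ)
    (hF : F.length = n) : ∀ (_ : ∀ i ∈ s, (c i).length = n),
    ∑ i ∈ s, a i * lcAt t (c i) F =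
      lcAt t ((List.range n).map fun k => ∑ i ∈ s, a i * (c i).getD k 0) F := by
  intro hc
  induction F generalizing n c with
  | nil =>
    subst hF
    refine Finset.sum_eq_zero fun i hi => ?_
    rw [List.eq_nil_of_length_eq_zero (hc i hi)]
    simp [lcAt]
  | cons x F ih =>
    subst hF
    rw [List.length_cons, List.range_succ_eq_map, List.map_cons, List.map_map, lcAt]
    have e : ∀ i ∈ s, lcAt t (c i) (x :: F) = (c i).getD 0 0 * ((fld x t : ℤ) - 8) + lcAt t (c i).tail F := by
      intro i hi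
      cases hci : c i with
      | nil => have := hc i hi; rw [hci] at this; simp at this
      | cons b r => simp [lcAt]
    rw [Finset.sum_congr rfl fun i hi => by rw [e i hi, mul_add, ← mul_assoc], Finset.sum_add_distrib,
      ← Finset.sum_mul]
    congr 1
    rw [ih (fun i => (c i).tail) F.length rfl fun i hi => by rw [List.length_tail, hc i hi, List.length_cons]; rfl]
    congr 1
    refine List.map_congr_left fun k _ => ?_
    simp only [Function.comp_apply]
    refine Finset.sum_congr rfl fun i _ => ?_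
    cases c i <;> simp

/-- Vectors fixed by a generator are combinations of the listed ones. -/
theorem fixed_span {g N d : ℕ} {F : List ℕ} {P : List (List ℤ)} (hP : projOk g N d F P = true)
    (hlen : ∀ q < 24, (P.getD q []).length = F.length) {v : leechLattice} (hv : gg g • v = v) :
    ∃ c : List ℤ, c.length = F.length ∧ ∀ p, (d * N * 8 : ℕ) * v.1 p = lcAt (idx p).val c F := by
  simp only [projOk, List.all_eq_true, List.mem_range, Bool.and_eq_true, beq_iff_eq] at hP
  refine ⟨(List.range F.length).map fun k => ∑ q : GolayPt, v.1 q * (P.getD (idx q).val []).getD k 0,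
    by simp, fun p => ?_⟩
  rw [← lcAt_sum Finset.univ _ (fun q : GolayPt => P.getD (idx q).val []) _ _ F rfl fun q _ => hlen _ (idx q).isLt]
  have h8 : (8 : ℤ) • v = ∑ q, v.1 q • eight q := Subtype.ext (funext fun k => by
    rw [AddSubgroup.coe_zsmul, AddSubmonoidClass.coe_finsetSum, Finset.sum_apply]
    simp [eight, Pi.single_apply, mul_comm])
  have hpow : ∀ n : ℕ, gg g ^ n • v = v := fun n => by
    induction n with
    | zero => simp
    | succ n ih => rw [pow_succ, mul_smul, hv, ih]
  have key : ∀ n : ℕ, (8 : ℤ) * v.1 p = ∑ q, v.1 q * (gg g ^ n • eight q).1 p := fun n => by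
    let f : leechLattice →+ leechLattice := AddMonoidHom.mk' (gg g ^ n).1 (gg g ^ n).2.1
    have e := congrArg f h8
    rw [map_zsmul, map_sum, show f v = gg g ^ n • v from rfl, hpow] at e
    have e2 := congrFun (congrArg Subtype.val e) p
    rw [AddSubgroup.coe_zsmul, Pi.smul_apply, smul_eq_mul, AddSubmonoidClass.coe_finsetSum, Finset.sum_apply] at e2
    rw [e2]
    refine Finset.sum_congr rfl fun q _ => ?_
    rw [map_zsmul, AddSubgroup.coe_zsmul, Pi.smul_apply, smul_eq_mul]
    rfl
  calc ((d * N * 8 : ℕ) : ℤ) * v.1 p = (d : ℤ) * ∑ _n ∈ Finset.range N, (8 : ℤ) * v.1 p := by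
        rw [Finset.sum_const, Finset.card_range, nsmul_eq_mul]; push_cast; ring
    _ = (d : ℤ) * ∑ q, v.1 q * ∑ n ∈ Finset.range N, (gg g ^ n • eight q).1 p := by
        rw [Finset.sum_congr rfl fun n _ => key n, Finset.sum_comm]
        congr 1
        exact Finset.sum_congr rfl fun q _ => (Finset.mul_sum _ _ _).symm
    _ = _ := by
        rw [Finset.mul_sum]
        refine Finset.sum_congr rfl fun q _ => ?_
        obtain ⟨h1, h2⟩ := hP _ (idx q).isLt
        rw [← sumPow_spec g _ (eight q) (eight_val q) p N h1, ← h2 _ (idx p).isLt]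
        ring

theorem dot_Val_dotP (x y : ℕ) : dotInt (Val x) (Val y) = dotP x y := by
  rw [dotP, ← List.sum_toFinset _ List.nodup_range, List.toFinset_range]
  exact sum_pts fun t => ((fld x t : ℤ) - 8) * ((fld y t : ℤ) - 8)

theorem no_sq {β n k : ℤ} (hk : 0 ≤ k) (h1 : k ^ 2 < n) (h2 : n < (k + 1) ^ 2) : β ^ 2 ≠ n := by
  intro h
  rw [← sq_abs] at h
  rcases le_or_gt |β| k with hb | hb
  · nlinarith [abs_nonneg β]
  · nlinarith [abs_nonneg β, Int.add_one_le_iff.2 hb]

theorem projA_len : ∀ q < 24, (projA.getD q []).length = [vP, fA].length := by decide +kernel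

theorem projY_len : ∀ q < 24, (projY.getD q []).length = basisF.length := by decide +kernel

/-- A vector of norm 32 fixed by the first generator. -/
theorem fixA {v : leechLattice} (hn : sqNorm v.1 = 32) (hv : gg 0 • v = v) : v = V ∨ v = -V := by
  obtain ⟨c, hc, he⟩ := fixed_span projA_ok projA_len hv
  obtain ⟨a, b, rfl⟩ : ∃ a b, c = [a, b] := List.length_eq_two.1 hc
  obtain ⟨hd1, hVV, hVF, hFF⟩ := fA_ok
  rw [hd1] at he
  have hval : ∀ p, 184 * v.1 p = a * Val vP p + b * Val fA p := fun p => by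
    have := he p
    simp only [lcAt, add_zero] at this
    exact_mod_cast this
  set d := dotInt V.1 v.1 with hd
  have e1 : 184 * d = 32 * a := by
    have h : 184 * d = a * dotInt (Val vP) (Val vP) + b * dotInt (Val vP) (Val fA) := by
      simp only [hd, dotInt, Finset.mul_sum, ← Finset.sum_add_distrib, V_val]
      exact Finset.sum_congr rfl fun p _ => by linear_combination (Val vP p) * hval p
    rw [dot_Val_dotP, dot_Val_dotP, hVV, hVF] at h
    linarith
  have e2 : 184 * 184 * 32 = 32 * a ^ 2 + 46 * b ^ 2 := by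
    have h : 184 * 184 * dotInt v.1 v.1 = a ^ 2 * dotInt (Val vP) (Val vP) + 2 * a * b * dotInt (Val vP) (Val fA) +
        b ^ 2 * dotInt (Val fA) (Val fA) := by
      simp only [dotInt, Finset.mul_sum, ← Finset.sum_add_distrib]
      exact Finset.sum_congr rfl fun p _ => by
        linear_combination (184 * v.1 p + a * Val vP p + b * Val fA p) * hval p
    rw [dot_Val_dotP, dot_Val_dotP, dot_Val_dotP, hVV, hVF, hFF, dot_self, hn] at h
    linarith
  rcases dot_values V.2 v.2 base_ok.2.1 hn with h | h | h | h | h | h | h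
  · exact Or.inl (Subtype.ext h)
  · exact Or.inr (Subtype.ext h)
  all_goals rw [← hd] at h; exfalso; rw [h] at e1
  · exact no_sq (k := 132) (n := 17664) (β := b) (by norm_num) (by norm_num) (by norm_num) (by nlinarith)
  · exact no_sq (k := 148) (n := 22080) (β := b) (by norm_num) (by norm_num) (by norm_num) (by nlinarith)
  · exact no_sq (k := 153) (n := 23552) (β := b) (by norm_num) (by norm_num) (by norm_num) (by nlinarith)
  · exact no_sq (k := 148) (n := 22080) (β := b) (by norm_num) (by norm_num) (by norm_num) (by nlinarith)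
  · exact no_sq (k := 132) (n := 17664) (β := b) (by norm_num) (by norm_num) (by norm_num) (by nlinarith)

theorem fixes_spec {a : ℕ} (ha : a < 6) : ∃ x : leechLattice, x.1 = Val (fixes.getD a 0) ∧ gg 1 • x = x ∧
    gg (4 + a) • V = x ∧ gg (4 + a) * gg 1 = gg 1 * gg (4 + a) := by
  have h := fixes_ok
  simp only [fixesOk, Bool.and_eq_true, List.all_eq_true, List.mem_range, Nat.beq_eq] at h
  obtain ⟨⟨⟨⟨⟨h1, h2⟩, h3⟩, h4⟩, h5⟩, h6⟩ := h.2 a ha
  let x : leechLattice := ⟨_, inLeech_spec h1⟩
  refine ⟨x, rfl, Subtype.ext ?_, Subtype.ext ?_, ?_⟩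
  · have := (okX_spec (v := x) h2 rfl).2
    rw [W_single, h3] at this
    exact this
  · have := (okX_spec (v := V) h4 rfl).2
    rw [W_single, h5] at this
    exact this
  · have := eqX_spec h6
    rwa [W_cons, W_single, W_cons, W_single] at this

/-- A vector of norm 32 fixed by the second generator. -/
theorem fixY {v : leechLattice} (hn : sqNorm v.1 = 32) (hv : gg 1 • v = v) :
    ∃ a < 6, v = gg (4 + a) • V ∨ v = -(gg (4 + a) • V) := by
  obtain ⟨c, hc, he⟩ := fixed_span projY_ok projY_len hv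
  have hFe : basisF = [fixes.getD 0 0, fixes.getD 1 0, fixes.getD 3 0, fixes.getD 4 0] := by decide +kernel
  rw [hFe] at hc he
  obtain ⟨c0, c1, c2, c3, rfl⟩ : ∃ c0 c1 c2 c3, c = [c0, c1, c2, c3] := by
    match c, hc with
    | [c0, c1, c2, c3], _ => exact ⟨c0, c1, c2, c3, rfl⟩
  set f0 := fixes.getD 0 0
  set f1 := fixes.getD 1 0
  set f2 := fixes.getD 3 0
  set f3 := fixes.getD 4 0
  have hD : ∀ p, 88 * v.1 p = c0 * Val f0 p + c1 * Val f1 p + c2 * Val f2 p + c3 * Val f3 p := fun p => by
    have e := he p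
    simp only [lcAt, add_zero, show ((dY * 11 * 8 : ℕ) : ℤ) = 88 by norm_num [dY]] at e
    rw [e]
    simp only [Val]
    ring
  have hG : ∀ k, 88 * dotInt v.1 (Val k) =
      c0 * dotP f0 k + c1 * dotP f1 k + c2 * dotP f2 k + c3 * dotP f3 k := fun k => by
    simp only [← dot_Val_dotP, dotInt, Finset.mul_sum, ← Finset.sum_add_distrib]
    exact Finset.sum_congr rfl fun p _ => by linear_combination (Val k p) * hD p
  have hvv : 88 * dotInt v.1 v.1 = c0 * dotInt v.1 (Val f0) + c1 * dotInt v.1 (Val f1) +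
      c2 * dotInt v.1 (Val f2) + c3 * dotInt v.1 (Val f3) := by
    simp only [dotInt, Finset.mul_sum, ← Finset.sum_add_distrib]
    exact Finset.sum_congr rfl fun p _ => by linear_combination (v.1 p) * hD p
  rw [dot_self, hn] at hvv
  set d0 := dotInt v.1 (Val f0) with hd0
  set d1 := dotInt v.1 (Val f1) with hd1
  set d2 := dotInt v.1 (Val f2) with hd2
  set d3 := dotInt v.1 (Val f3) with hd3
  have hadj : ∀ i < 4, ∀ l < 4,
      (adjY.getD i []).getD 0 0 * dotP f0 ([f0, f1, f2, f3].getD l 0) + ((adjY.getD i []).getD 1 0 *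
        dotP f1 ([f0, f1, f2, f3].getD l 0) + ((adjY.getD i []).getD 2 0 * dotP f2 ([f0, f1, f2, f3].getD l 0) +
        ((adjY.getD i []).getD 3 0 * dotP f3 ([f0, f1, f2, f3].getD l 0) + 0))) =
      (bif Nat.beq i l then detY else 0) := fun i hi l hl => by
    have h := adj_ok
    simp only [adjOk, List.all_eq_true, List.mem_range, beq_iff_eq] at h
    have h2 := h i hi l hl
    rw [hFe] at h2
    exact h2
  have hsym : ∀ x y, dotP x y = dotP y x := fun x y => by
    rw [← dot_Val_dotP, ← dot_Val_dotP, dotInt_comm']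
  have hq : quad d0 d1 d2 d3 = 32 * detY := by
    have g0 := hG f0
    have g1 := hG f1
    have g2 := hG f2
    have g3 := hG f3
    rw [← hd0] at g0
    rw [← hd1] at g1
    rw [← hd2] at g2
    rw [← hd3] at g3
    simp only [hsym f1 f0, hsym f2 f0, hsym f3 f0, hsym f2 f1, hsym f3 f1, hsym f3 f2] at g0 g1 g2 g3
    have a00 := hadj 0 (by norm_num) 0 (by norm_num)
    have a01 := hadj 0 (by norm_num) 1 (by norm_num)
    have a02 := hadj 0 (by norm_num) 2 (by norm_num)
    have a03 := hadj 0 (by norm_num) 3 (by norm_num)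
    have a10 := hadj 1 (by norm_num) 0 (by norm_num)
    have a11 := hadj 1 (by norm_num) 1 (by norm_num)
    have a12 := hadj 1 (by norm_num) 2 (by norm_num)
    have a13 := hadj 1 (by norm_num) 3 (by norm_num)
    have a20 := hadj 2 (by norm_num) 0 (by norm_num)
    have a21 := hadj 2 (by norm_num) 1 (by norm_num)
    have a22 := hadj 2 (by norm_num) 2 (by norm_num)
    have a23 := hadj 2 (by norm_num) 3 (by norm_num)
    have a30 := hadj 3 (by norm_num) 0 (by norm_num)
    have a31 := hadj 3 (by norm_num) 1 (by norm_num)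
    have a32 := hadj 3 (by norm_num) 2 (by norm_num)
    have a33 := hadj 3 (by norm_num) 3 (by norm_num)
    simp only [List.getD_cons_zero, List.getD_cons_succ, Nat.beq, hsym f1 f0, hsym f2 f0, hsym f3 f0, hsym f2 f1,
      hsym f3 f1, hsym f3 f2, Nat.reduceBEq, cond_true, cond_false, add_zero] at *
    have key : 88 * quad d0 d1 d2 d3 = 88 * (32 * detY) := by
      simp only [quad]
      linear_combination
        (d0 * (adjY.getD 0 []).getD 0 0 + d1 * (adjY.getD 1 []).getD 0 0 + d2 * (adjY.getD 2 []).getD 0 0 +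
          d3 * (adjY.getD 3 []).getD 0 0) * g0 +
        (d0 * (adjY.getD 0 []).getD 1 0 + d1 * (adjY.getD 1 []).getD 1 0 + d2 * (adjY.getD 2 []).getD 1 0 +
          d3 * (adjY.getD 3 []).getD 1 0) * g1 +
        (d0 * (adjY.getD 0 []).getD 2 0 + d1 * (adjY.getD 1 []).getD 2 0 + d2 * (adjY.getD 2 []).getD 2 0 +
          d3 * (adjY.getD 3 []).getD 2 0) * g2 +
        (d0 * (adjY.getD 0 []).getD 3 0 + d1 * (adjY.getD 1 []).getD 3 0 + d2 * (adjY.getD 2 []).getD 3 0 +
          d3 * (adjY.getD 3 []).getD 3 0) * g3 +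
        c0 * d0 * a00 + c1 * d0 * a01 + c2 * d0 * a02 + c3 * d0 * a03 +
        c0 * d1 * a10 + c1 * d1 * a11 + c2 * d1 * a12 + c3 * d1 * a13 +
        c0 * d2 * a20 + c1 * d2 * a21 + c2 * d2 * a22 + c3 * d2 * a23 +
        c0 * d3 * a30 + c1 * d3 * a31 + c2 * d3 * a32 + c3 * d3 * a33 - detY * hvv
    linarith
  have hmem : ∀ i, i < 6 → dotInt v.1 (Val (fixes.getD i 0)) ∈ dVals := fun i hi => by
    obtain ⟨x, hx, -, hxV, -⟩ := fixes_spec hi
    have hxn : sqNorm x.1 = 32 := by rw [← hxV, CfsgLib.Leech.norm_smul]; exact base_ok.2.1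
    rw [← hx]
    rcases dot_values v.2 x.2 hn hxn with h | h | h | h | h | h | h
    · rw [h, dot_self, hn]; simp [dVals]
    · have : dotInt v.1 x.1 = -dotInt v.1 v.1 := by
        rw [h]; simp [dotInt]
      rw [this, dot_self, hn]; simp [dVals]
    all_goals rw [h]; simp [dVals]
  have hb := box_ok
  simp only [boxOk, List.all_eq_true, Bool.or_eq_true, Bool.not_eq_true', beq_eq_false_iff_ne, List.any_eq_true,
    beq_iff_eq] at hb
  obtain ⟨s, hs, hse⟩ := (hb d0 (hmem 0 (by norm_num)) d1 (hmem 1 (by norm_num)) d2 (hmem 3 (by norm_num)) d3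
    (hmem 4 (by norm_num))).resolve_left (fun h => h hq)
  rw [sig_ok, List.mem_map] at hs
  obtain ⟨fx, hfx, rfl⟩ := hs
  obtain ⟨a, ha, rfl⟩ := List.getElem_of_mem hfx
  have ha6 : a < 6 := by
    have h := fixes_ok
    simp only [fixesOk, Bool.and_eq_true, Nat.beq_eq] at h
    omega
  obtain ⟨x, hx, hxY, hxV, -⟩ := fixes_spec ha6
  rw [List.getD_eq_getElem _ _ ha] at hx
  refine ⟨a, ha6, ?_⟩
  rw [hxV]
  obtain ⟨c', hc', he'⟩ := fixed_span projY_ok projY_len hxY
  rw [hFe] at hc' he'
  obtain ⟨e0, e1, e2, e3, rfl⟩ : ∃ e0 e1 e2 e3, c' = [e0, e1, e2, e3] := by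
    match c', hc' with
    | [e0, e1, e2, e3], _ => exact ⟨e0, e1, e2, e3, rfl⟩
  have hD' : ∀ p, 88 * x.1 p = e0 * Val f0 p + e1 * Val f1 p + e2 * Val f2 p + e3 * Val f3 p := fun p => by
    have e := he' p
    simp only [lcAt, add_zero, show ((dY * 11 * 8 : ℕ) : ℤ) = 88 by norm_num [dY]] at e
    rw [e]
    simp only [Val]
    ring
  rw [hFe] at hse
  simp only [List.map_cons, List.map_nil, List.cons.injEq, and_true] at hse
  simp only [← dot_Val_dotP, ← hx] at hse
  have fin : ∀ σ : ℤ, dotInt x.1 (Val f0) = σ * d0 → dotInt x.1 (Val f1) = σ * d1 →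
      dotInt x.1 (Val f2) = σ * d2 → dotInt x.1 (Val f3) = σ * d3 → ∀ p, x.1 p = σ * v.1 p := by
    intro σ h0 h1 h2 h3
    have hexp : ∀ k, dotInt (x.1 - σ • v.1) (Val k) = dotInt x.1 (Val k) - σ * dotInt v.1 (Val k) := fun k => by
      simp only [dotInt, Finset.mul_sum, ← Finset.sum_sub_distrib, Pi.sub_apply, Pi.smul_apply, smul_eq_mul]
      exact Finset.sum_congr rfl fun p _ => by ring
    have hz : 88 * dotInt (x.1 - σ • v.1) (x.1 - σ • v.1) = 0 := by
      have h : 88 * dotInt (x.1 - σ • v.1) (x.1 - σ • v.1) =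
          (e0 - σ * c0) * dotInt (x.1 - σ • v.1) (Val f0) + (e1 - σ * c1) * dotInt (x.1 - σ • v.1) (Val f1) +
          (e2 - σ * c2) * dotInt (x.1 - σ • v.1) (Val f2) + (e3 - σ * c3) * dotInt (x.1 - σ • v.1) (Val f3) := by
        simp only [dotInt, Finset.mul_sum, ← Finset.sum_add_distrib]
        refine Finset.sum_congr rfl fun p _ => ?_
        simp only [Pi.sub_apply, Pi.smul_apply, smul_eq_mul]
        linear_combination (x.1 p - σ * v.1 p) * hD' p - σ * (x.1 p - σ * v.1 p) * hD p
      rw [h, hexp, hexp, hexp, hexp, h0, h1, h2, h3, hd0, hd1, hd2, hd3]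
      ring
    rw [dot_self] at hz
    have h0' : sqNorm (x.1 - σ • v.1) = 0 := by omega
    intro p
    have := congrFun (sqNorm_eq_zero h0') p
    simp only [Pi.sub_apply, Pi.smul_apply, smul_eq_mul, Pi.zero_apply] at this
    omega
  rcases hse with ⟨h0, h1, h2, h3⟩ | ⟨h0, h1, h2, h3⟩ <;> rw [dotInt_comm'] at h0 h1 h2 h3
  · refine Or.inl (Subtype.ext (funext fun p => ?_))
    have := fin 1 (by linarith) (by linarith) (by linarith) (by linarith) p
    linarith
  · refine Or.inr (Subtype.ext (funext fun p => ?_))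
    have := fin (-1) (by linarith) (by linarith) (by linarith) (by linarith) p
    rw [AddSubgroup.coe_neg, Pi.neg_apply]
    linarith

/-! ### Generation -/

/-- The third generator. -/
noncomputable def z1 : Co0 := W zWord

theorem sub3_spec (a b c : Co0) (S : List (List ℕ)) (h0 : pr (W (S.getD 0 [])) = pr a)
    (h1 : pr (W (S.getD 1 [])) = pr b) (h2 : pr (W (S.getD 2 [])) = pr c) : ∀ w : List ℕ,
    pr (W (sub3 S w)) = pr ((w.map fun g => ([a, b, c] : List Co0).getD g (W (S.getD g []))).prod)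
  | [] => rfl
  | g :: r => by
    rw [sub3, W_append, map_mul, sub3_spec a b c S h0 h1 h2 r, List.map_cons, List.prod_cons, map_mul]
    congr 1
    match g with
    | 0 => exact h0
    | 1 => exact h1
    | 2 => exact h2
    | g + 3 => simp

theorem known_lt : ∀ k ∈ C2.known, ∀ g ∈ k, g < 4 := by decide +kernel

theorem grp_le_closure {g : Co0} (hg : g ∈ C2.Grp) : g ∈ Subgroup.closure ({gg 0, gg 2, z1} : Set Co0) := by
  have h : (⟨g, hg⟩ : C2.Grp) ∈ Subgroup.closure ({C2.el 0, C2.el 2} : Set C2.Grp) := by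
    rw [closure_top ok2 card2 fin2]; trivial
  have h2 := Subgroup.mem_map_of_mem C2.Grp.subtype h
  rw [MonoidHom.map_closure, Set.image_pair, Subgroup.coe_subtype] at h2
  rw [← gg_old (by norm_num : 0 < 4), ← gg_old (by norm_num : 2 < 4)] at h2
  refine Subgroup.closure_mono ?_ h2
  rintro x (rfl | rfl) <;> simp

theorem gen_top : Subgroup.closure ({gg 0, gg 2, z1} : Set Co0) ⊔ Subgroup.center Co0 = ⊤ := by
  set H := Subgroup.closure ({gg 0, gg 2, z1} : Set Co0) ⊔ Subgroup.center Co0 with hH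
  have hcl : Subgroup.closure ({gg 0, gg 2, z1} : Set Co0) ≤ H := le_sup_left
  have hneg : negOne ∈ H := le_sup_right (a := Subgroup.closure ({gg 0, gg 2, z1} : Set Co0)) negOne_central
  have hrep : ∀ i < 3, ∃ h ∈ H, dotInt V.1 (h • V).1 = -([16, 8, 0].getD i 1 : ℕ) := by
    intro i hi
    have ho := List.all_eq_true.1 orb_ok.2 i (List.mem_range.2 hi)
    simp only [Bool.and_eq_true, beq_iff_eq] at ho
    obtain ⟨hok, hd⟩ := ho
    have hw : ∀ w : List ℕ, W (sub3 [[0], [2], zWord] w) ∈ H := by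
      intro w
      induction w with
      | nil => exact one_mem _
      | cons g r ih =>
        rw [sub3, W_append]
        refine mul_mem ?_ ih
        match g with
        | 0 => exact hcl (Subgroup.subset_closure (by simp [W]))
        | 1 => exact hcl (Subgroup.subset_closure (by simp [W]))
        | 2 => exact hcl (Subgroup.subset_closure (by simp [z1]))
        | g + 3 => simpa [W_nil] using one_mem H
    have hv := (okX_spec (v := V) hok rfl).2
    rw [← dot_Val_dotP, ← hv, ← V_val] at hd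
    set D := dotInt V.1 (W (sub3 [[0], [2], zWord] (orbWords.getD i [])) • V).1
    rcases Int.natAbs_eq D with e | e
    · refine ⟨negOne * W (sub3 [[0], [2], zWord] (orbWords.getD i [])), mul_mem hneg (hw _), ?_⟩
      rw [mul_smul, show negOne • (W (sub3 [[0], [2], zWord] (orbWords.getD i [])) • V) =
        -(W (sub3 [[0], [2], zWord] (orbWords.getD i [])) • V) from negOne_apply _, AddSubgroup.coe_neg]
      have : ∀ u : GolayPt → ℤ, dotInt V.1 (-u) = -dotInt V.1 u := fun u => by simp [dotInt]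
      rw [this, ← hd]
      omega
    · exact ⟨_, hw _, by rw [← hd]; exact e⟩
  have hVn : sqNorm V.1 = 32 := base_ok.2.1
  have hneg_dot : ∀ u : leechLattice, dotInt V.1 (-u).1 = -dotInt V.1 u.1 := fun u => by
    rw [AddSubgroup.coe_neg]; simp [dotInt]
  have hmin : ∀ w : leechLattice, sqNorm w.1 = 32 → ∃ h ∈ H, h • V = w := by
    have hcase : ∀ i < 3, ∀ w : leechLattice, sqNorm w.1 = 32 → dotInt V.1 w.1 = -([16, 8, 0].getD i 1 : ℕ) →
        ∃ h ∈ H, h • V = w := by
      intro i hi w hw hd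
      obtain ⟨h, hh, hdh⟩ := hrep i hi
      have hn : sqNorm (h • V).1 = 32 := (norm_smul h V).trans hVn
      obtain ⟨g, g1, g2⟩ : ∃ g : Co0, g • V = V ∧ g • (h • V) = w := by
        obtain rfl | rfl | rfl : i = 0 ∨ i = 1 ∨ i = 2 := by omega
        · exact transitive_dot16 hVn hn (by simpa using hdh) hVn hw (by simpa using hd)
        · exact transitive_dot8 hVn hn (by simpa using hdh) hVn hw (by simpa using hd)
        · exact transitive_orth hVn hn (by simpa using hdh) hVn hw (by simpa using hd)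
      exact ⟨g * h, mul_mem (hcl (grp_le_closure (mem_grp.2 g1))) hh, by rw [mul_smul, g2]⟩
    have hflip : ∀ i < 3, ∀ w : leechLattice, sqNorm w.1 = 32 → dotInt V.1 w.1 = ([16, 8, 0].getD i 1 : ℕ) →
        ∃ h ∈ H, h • V = w := by
      intro i hi w hw hd
      obtain ⟨h, hh, e⟩ := hcase i hi (-w) (by rw [AddSubgroup.coe_neg]; simpa [sqNorm] using hw)
        (by rw [hneg_dot, hd])
      refine ⟨negOne * h, mul_mem hneg hh, ?_⟩
      rw [mul_smul, e, show negOne • (-w) = - -w from negOne_apply _, neg_neg]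
    intro w hw
    rcases dot_values V.2 w.2 hVn hw with e | e | e | e | e | e | e
    · exact ⟨1, one_mem _, by rw [one_smul]; exact (Subtype.ext e).symm⟩
    · exact ⟨negOne, hneg, by rw [show negOne • V = -V from negOne_apply _]; exact (Subtype.ext e).symm⟩
    · exact hflip 0 (by norm_num) w hw (by simpa using e)
    · exact hflip 1 (by norm_num) w hw (by simpa using e)
    · exact hcase 2 (by norm_num) w hw (by simpa using e)
    · exact hcase 1 (by norm_num) w hw (by simpa using e)
    · exact hcase 0 (by norm_num) w hw (by simpa using e)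
  refine eq_top_iff.2 fun g _ => ?_
  obtain ⟨h, hh, e⟩ := hmin (g • V) ((norm_smul g V).trans hVn)
  have hst : h⁻¹ * g ∈ C2.Grp := mem_grp.2 (by rw [mul_smul, ← e, inv_smul_smul])
  have := mul_mem hh (hcl (grp_le_closure hst))
  rwa [mul_inv_cancel_left] at this

theorem gen_ext {f f' : MulAut Spor.Co1} (h0 : f (pr (gg 0)) = f' (pr (gg 0))) (h2 : f (pr (gg 2)) = f' (pr (gg 2)))
    (h3 : f (pr z1) = f' (pr z1)) : f = f' := by
  refine MulEquiv.toMonoidHom_injective ?_
  have htop : Subgroup.closure (pr '' ({gg 0, gg 2, z1} : Set Co0)) = ⊤ := by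
    rw [← MonoidHom.map_closure, eq_top_iff]
    intro x _
    obtain ⟨g, rfl⟩ := QuotientGroup.mk'_surjective (Subgroup.center Co0) x
    have hg : g ∈ Subgroup.closure ({gg 0, gg 2, z1} : Set Co0) ⊔ Subgroup.center Co0 := by
      rw [gen_top]; trivial
    rw [Subgroup.mem_sup_of_normal_right] at hg
    obtain ⟨a, ha, b, hb, rfl⟩ := hg
    exact ⟨a, ha, by rw [map_mul, show pr b = 1 from (QuotientGroup.eq_one_iff _).2 hb, mul_one]⟩
  refine MonoidHom.eq_of_eqOn_dense htop ?_
  rintro _ ⟨x, rfl | rfl | rfl, rfl⟩ <;> assumption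

/-! ### Automorphisms -/

theorem negOne_pow_odd {n : ℕ} (hn : Odd n) : negOne ^ n = negOne := by
  obtain ⟨k, rfl⟩ := hn
  have h2 : negOne * negOne = 1 := by
    refine ext_eights fun i => ?_
    rw [mul_smul, show negOne • eight i = -eight i from negOne_apply _,
      show negOne • (-eight i) = - -eight i from negOne_apply _, neg_neg, one_smul]
  rw [pow_succ, pow_mul, pow_two, h2, one_pow, one_mul]

/-- Odd-order equations lift. -/
theorem lift_comm {c a b : Co0} {n : ℕ} (hn : Odd n) (ha : a ^ n = 1) (hb : b ^ n = 1)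
    (h : pr (c * a) = pr (b * c)) : c * a = b * c := by
  rcases lift_rel' h with e | e
  · exact e
  · exfalso
    have e1 : c * a * c⁻¹ = negOne * b := by rw [e, mul_assoc, mul_inv_cancel_right]
    have e2 := congrArg (· ^ n) e1
    simp only [conj_pow, ha, mul_one, mul_inv_cancel] at e2
    rw [(show Commute negOne b from (Subgroup.mem_center_iff.1 negOne_central b).symm).mul_pow, hb, mul_one,
      negOne_pow_odd hn] at e2
    exact negOne_ne_one e2.symm

theorem cands_spec {i : ℕ} (hi : i < cands.length) : ∃ a < 6, ∃ k ∈ C2.known, cands.getD i [] = (4 + a) :: k := by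
  rw [List.getD_eq_getElem _ _ hi]
  have := List.getElem_mem hi
  simp only [cands, List.mem_flatMap, List.mem_map, List.mem_range] at this
  obtain ⟨a, ha, k, hk, e⟩ := this
  exact ⟨a, ha, k, hk, e.symm⟩

theorem prime23 : Nat.Prime 23 := by norm_num

theorem card_Co1 : Nat.card Spor.Co1 = 4157776806543360000 := isCo1_quot.2

theorem card_out : Nat.card (Cfsg.Out Spor.Co1) = 1 := by
  classical
  have hfin : Finite Spor.Co1 := Nat.finite_of_card_ne_zero (by rw [card_Co1]; norm_num)
  refine Nat.card_eq_one_iff_exists.2 ⟨QuotientGroup.mk 1, fun x => ?_⟩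
  obtain ⟨φ, rfl⟩ := QuotientGroup.mk_surjective x
  have hrel := ok2.rel
  simp only [OCert.relOk, Bool.and_eq_true, List.all_eq_true, List.mem_range, List.any_eq_true, Bool.or_eq_true,
    Nat.beq_eq, Bool.not_eq_true', Nat.blt_eq] at hrel
  obtain ⟨⟨⟨⟨⟨⟨⟨⟨⟨hYA, hAp⟩, hA1⟩, hY3⟩, hZY⟩, hkk⟩, hu⟩, hconj⟩, -⟩, -⟩ := hrel
  obtain ⟨hp, hk, hkinv, hu', hq, hs⟩ : C2.p = 23 ∧ C2.k = Co2.cert.k ∧ C2.kinv = Co2.cert.kinv ∧
      C2.u = Co2.cert.u ∧ C2.q = 11 ∧ C2.s = 10 := by decide +kernel
  set k := C2.k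
  set kinv := C2.kinv
  set u := C2.u
  rw [hp] at hkk hu hconj
  rw [hs] at hY3
  have hgA : gg 0 ^ 23 = 1 := by
    have := eqW_spec ok2 fx2 hAp
    rw [hp, wd_replicate, wd_nil] at this
    rw [gg_old (by norm_num), ← Subgroup.coe_pow, this, OneMemClass.coe_one]
  have hYA0 : gg 1 * gg 0 = gg 0 ^ k * gg 1 := by
    have := congrArg Subtype.val (eqW_spec ok2 fx2 hYA)
    rw [wd_cons, wd_single, wd_append, wd_replicate, wd_single] at this
    rw [gg_old (by norm_num), gg_old (by norm_num)]
    exact this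
  have hY10 : gg 3 = gg 1 ^ 10 := by
    have := congrArg Subtype.val (eqW_spec ok2 fx2 hY3)
    rw [wd_single, wd_replicate] at this
    rw [gg_old (by norm_num), gg_old (by norm_num)]
    exact this
  have hY11 : gg 1 ^ 11 = 1 := by
    have h : C2.eqW (List.replicate 11 1) [] = true := by decide +kernel
    have := congrArg Subtype.val (eqW_spec ok2 fx2 h)
    rw [wd_replicate, wd_nil] at this
    rw [gg_old (by norm_num)]
    exact this
  have hZY0 : gg 2 * gg 1 = gg 3 * gg 2 := by
    have := congrArg Subtype.val (eqW_spec ok2 fx2 hZY)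
    rw [wd_cons, wd_single, wd_cons, wd_single] at this
    rw [gg_old (by norm_num), gg_old (by norm_num), gg_old (by norm_num)]
    exact this
  set A := pr (gg 0) with hAdef
  set Y := pr (gg 1) with hYdef
  have hpow : A ^ 23 = 1 := by rw [hAdef, ← map_pow, hgA, map_one]
  have hA : A ≠ 1 := by
    intro e
    rcases lift_rel' (e.trans (map_one pr).symm) with e' | e'
    · have h : C2.eqW [0] [] = true := eqW_of ok2 (by simp) (by simp) (Subtype.ext (by
        rw [wd_single, wd_nil, ← gg_old (by norm_num : 0 < 4), e', OneMemClass.coe_one]))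
      rw [h] at hA1
      exact absurd hA1 (by simp)
    · rw [mul_one] at e'
      rw [e', negOne_pow_odd (by decide)] at hgA
      exact negOne_ne_one hgA
  haveI := Fact.mk prime23
  have hoA : orderOf A = 23 := orderOf_eq_prime hpow hA
  have hAeq : ∀ {a b : ℕ}, a % 23 = b % 23 → A ^ a = A ^ b := fun {a b} hab =>
    pow_eq_pow_iff_modEq.2 (by rw [hoA]; exact hab)
  have hYA' : Y * A = A ^ k * Y := by rw [hAdef, hYdef, ← map_mul, hYA0, map_mul, map_pow]
  have hYAn : ∀ n : ℕ, Y * A ^ n = A ^ (k * n) * Y := by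
    intro n
    induction n with
    | zero => simp
    | succ n ih => rw [pow_succ, ← mul_assoc, ih, mul_assoc, hYA', ← mul_assoc, ← pow_add, Nat.mul_succ]
  have hYmA : ∀ m n : ℕ, Y ^ m * A ^ n = A ^ (k ^ m * n) * Y ^ m := by
    intro m
    induction m with
    | zero => simp
    | succ m ih =>
      intro n
      rw [pow_succ' Y, mul_assoc, ih n, ← mul_assoc, hYAn, mul_assoc,
        show k * (k ^ m * n) = k ^ (m + 1) * n by ring]
  have hfac : (Nat.card Spor.Co1).factorization 23 = 1 := by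
    rw [card_Co1, show (4157776806543360000 : ℕ) = 23 * 180772904632320000 by norm_num,
      Nat.factorization_mul (by norm_num) (by norm_num), Finsupp.add_apply, prime23.factorization_self,
      Nat.factorization_eq_zero_of_not_dvd (by norm_num)]
  have hsyl : ∀ y : Spor.Co1, orderOf y = 23 →
      Nat.card (Subgroup.zpowers y) = 23 ^ (Nat.card Spor.Co1).factorization 23 := fun y hy => by
    rw [Nat.card_zpowers, hy, hfac, pow_one]
  have hoA' : orderOf (φ A) = 23 := by rw [MulEquiv.orderOf_eq]; exact hoA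
  obtain ⟨g1, hg1⟩ := MulAction.exists_smul_eq Spor.Co1
    (Sylow.ofCard (Subgroup.zpowers A) (hsyl A hoA)) (Sylow.ofCard (Subgroup.zpowers (φ A)) (hsyl _ hoA'))
  have hin : g1⁻¹ * φ A * g1 ∈ Subgroup.zpowers A := by
    have e : Subgroup.zpowers (φ A) = MulAut.conj g1 • Subgroup.zpowers A := (congrArg Sylow.toSubgroup hg1).symm
    have h2 : φ A ∈ MulAut.conj g1 • Subgroup.zpowers A := e ▸ Subgroup.mem_zpowers _
    rw [Subgroup.mem_pointwise_smul_iff_inv_smul_mem, MulAut.smul_def, MulAut.conj_inv_apply] at h2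
    exact h2
  rw [mem_zpowers_iff_mem_range_orderOf, Finset.mem_image] at hin
  obtain ⟨j, hj, hje⟩ := hin
  rw [Finset.mem_range, hoA] at hj
  have hj0 : j ≠ 0 := by
    rintro rfl
    rw [pow_zero, eq_comm] at hje
    have h2 : φ A = 1 := by
      have := congrArg (fun y => g1 * y * g1⁻¹) hje
      simpa [mul_assoc] using this
    rw [h2, orderOf_one] at hoA'
    omega
  obtain ⟨m, -, hm⟩ := hconj (j - 1) (by omega)
  rw [Nat.sub_add_cancel (Nat.pos_of_ne_zero hj0)] at hm
  set e := j * k ^ m % 23 with hedef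
  set g2 : Spor.Co1 := Y ^ m * g1⁻¹ with hg2
  set ψ := MulAut.conj g2 * φ with hψ
  have hψA : ψ A = A ^ e := by
    show g2 * φ A * g2⁻¹ = _
    rw [hg2, mul_inv_rev, inv_inv, show Y ^ m * g1⁻¹ * φ A * (g1 * (Y ^ m)⁻¹) =
      Y ^ m * (g1⁻¹ * φ A * g1) * (Y ^ m)⁻¹ by group, ← hje, hYmA, mul_inv_cancel_right]
    exact hAeq (by rw [Nat.mod_mod, Nat.mul_comm])
  have he2 : e * e % 23 = 1 % 23 := by rcases hm with hm | hm <;> rw [hm] <;> rfl
  -- the image of the second generator
  obtain ⟨y', hy'⟩ := QuotientGroup.mk'_surjective (Subgroup.center Co0) (ψ Y)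
  have hc1 : Commute (Y⁻¹ * ψ Y) (A ^ e) := by
    have h1 := congrArg ψ hYA'
    rw [map_mul, map_mul, map_pow, hψA, ← pow_mul] at h1
    show Y⁻¹ * ψ Y * A ^ e = A ^ e * (Y⁻¹ * ψ Y)
    have k1 : Y⁻¹ * A ^ (k * e) = A ^ e * Y⁻¹ := by
      rw [inv_mul_eq_iff_eq_mul, ← mul_assoc, hYAn, mul_inv_cancel_right]
    rw [mul_assoc, h1, show e * k = k * e from Nat.mul_comm _ _, ← mul_assoc, ← mul_assoc, k1]
  have hc2 : Commute (Y⁻¹ * ψ Y) A := by
    have := hc1.pow_right e
    rwa [← pow_mul, hAeq he2, pow_one] at this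
  obtain ⟨c, hcdef⟩ : ∃ c, c = (gg 1)⁻¹ * y' := ⟨_, rfl⟩
  have hpc : pr c = Y⁻¹ * ψ Y := by rw [hcdef, map_mul, map_inv, ← hy']
  have hcA : c * gg 0 = gg 0 * c := lift_comm (n := 23) (by decide) hgA hgA (by
    rw [map_mul, map_mul, hpc]; exact hc2)
  have hknA : ∀ w ∈ (List.range C2.p).map (fun i => List.replicate i 0), C2.wd w * C2.el 0 = C2.el 0 * C2.wd w := by
    intro w hw
    obtain ⟨i, -, rfl⟩ := List.mem_map.1 hw
    rw [wd_replicate, ← pow_succ, ← pow_succ']
  have hAV : gg 0 • V = V := by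
    rw [gg_old (by norm_num : 0 < 4)]; exact mem_grp.1 (C2.el 0).2
  have hsign : ∃ i : ℕ, Y⁻¹ * ψ Y = A ^ i := by
    have hcV : gg 0 • (c • V) = c • V := by rw [← mul_smul, ← hcA, mul_smul, hAV]
    have key : ∀ d : Co0, d • V = V → d * gg 0 = gg 0 * d → ∃ i : ℕ, pr d = A ^ i := by
      intro d hd hdA
      obtain ⟨w, hw, he⟩ := search_spec ok2 fx2 (img_mem ok2 card2 fin2) (by norm_num : 0 < 4)
        (by norm_num : 0 < 4) ok2.searchA hknA (c := ⟨d, mem_grp.2 hd⟩) (Subtype.ext (by
          rw [Subgroup.coe_mul, Subgroup.coe_mul, ← gg_old (by norm_num : 0 < 4)]; exact hdA))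
      obtain ⟨i, -, rfl⟩ := List.mem_map.1 hw
      refine ⟨i, ?_⟩
      have := congrArg Subtype.val he
      rw [wd_replicate, Subgroup.coe_pow, ← gg_old (by norm_num : 0 < 4)] at this
      rw [hAdef, ← map_pow]
      exact congrArg pr this
    rcases fixA ((norm_smul c V).trans base_ok.2.1) hcV with h | h
    · obtain ⟨i, hi⟩ := key c h hcA
      exact ⟨i, hpc.symm.trans hi⟩
    · obtain ⟨i, hi⟩ := key (negOne * c) (by
        rw [mul_smul, h, show negOne • (-V) = - -V from negOne_apply _, neg_neg]) (by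
        rw [mul_assoc, hcA, ← mul_assoc, ← mul_assoc, Subgroup.mem_center_iff.1 negOne_central (gg 0)])
      refine ⟨i, ?_⟩
      rw [← hpc, ← hi, map_mul, pr_negOne, one_mul]
  obtain ⟨i, hi⟩ := hsign
  rw [inv_mul_eq_iff_eq_mul] at hi
  set l := u * i with hl
  set ψ' := MulAut.conj (A ^ l * g2) * φ with hψ'
  have hψ'A : ψ' A = A ^ e := by
    rw [hψ', map_mul, mul_assoc, ← hψ, MulAut.mul_apply, hψA, MulAut.conj_apply, ← pow_add, Nat.add_comm,
      pow_add, mul_inv_cancel_right]
  have hψ'Y : ψ' Y = Y := by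
    rw [hψ', map_mul, mul_assoc, ← hψ, MulAut.mul_apply, hi, MulAut.conj_apply, mul_inv_eq_iff_eq_mul]
    have hswap : A ^ l * Y = Y * A ^ (kinv * l) := by
      rw [hYAn]
      congr 1
      refine hAeq ?_
      rw [← Nat.mul_assoc, Nat.mul_mod (k * kinv) l, hkk, one_mul, Nat.mod_mod]
    rw [← mul_assoc, hswap, mul_assoc, ← pow_add]
    congr 1
    refine hAeq ?_
    have key : (kinv * u + 1) % 23 = u % 23 := by omega
    rw [show kinv * l + i = (kinv * u + 1) * i by rw [hl]; ring, hl, Nat.mul_mod, key, ← Nat.mul_mod]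
  have hYV : gg 1 • V = V := by
    rw [gg_old (by norm_num : 1 < 4)]; exact mem_grp.1 (C2.el 1).2
  have hkn : ∀ w ∈ C2.known, C2.wd w * C2.el 1 = C2.el 3 * C2.wd w := fun w hw => by
    have := eqW_spec ok2 fx2 (List.all_eq_true.1 Co2.hkY w hw)
    rwa [wd_append, wd_append, wd_single, wd_single] at this
  -- images of elements inverting the second generator
  have hinv : ∀ z : Co0, z * gg 1 = gg 3 * z → ∃ n < cands.length, ψ' (pr z) = pr (W (cands.getD n [])) := by
    intro z hz
    obtain ⟨z', hz'⟩ := QuotientGroup.mk'_surjective (Subgroup.center Co0) (ψ' (pr z))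
    have hzz : z' * gg 1 = gg 3 * z' := lift_comm (n := 11) (by decide) hY11
      (by rw [hY10, ← pow_mul, mul_comm, pow_mul, hY11, one_pow]) (by
      have h2 := congrArg (fun y => ψ' (pr y)) hz
      simp only [map_mul, hY10, map_pow] at h2
      rw [← hYdef, hψ'Y, ← hz'] at h2
      rw [map_mul, map_mul, hY10, map_pow]
      exact h2)
    have hYw : gg 1 • (z' • V) = z' • V := by
      have h3 : gg 3 • (z' • V) = z' • V := by rw [← mul_smul, ← hzz, mul_smul, hYV]
      have h4 : ∀ n : ℕ, gg 3 ^ n • (z' • V) = z' • V := fun n => by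
        induction n with
        | zero => simp
        | succ n ih => rw [pow_succ, mul_smul, h3, ih]
      have h5 := h4 10
      rwa [hY10, ← pow_mul, show 10 * 10 = 11 * 9 + 1 by norm_num, pow_succ, pow_mul, hY11, one_pow, one_mul] at h5
    obtain ⟨a, ha, hav⟩ := fixY ((norm_smul z' V).trans base_ok.2.1) hYw
    obtain ⟨x', -, -, -, hcomm⟩ := fixes_spec ha
    have key : ∀ d : Co0, d • V = gg (4 + a) • V → d * gg 1 = gg 3 * d →
        ∃ n < cands.length, pr d = pr (W (cands.getD n [])) := by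
      intro d hd hdY
      have hd' : ((gg (4 + a))⁻¹ * d) • V = V := by rw [mul_smul, hd, inv_smul_smul]
      have hc31 : gg (4 + a) * gg 3 = gg 3 * gg (4 + a) := by
        rw [hY10]; exact (show Commute (gg (4 + a)) (gg 1) from hcomm).pow_right 10
      obtain ⟨w, hw, he⟩ := search_spec ok2 fx2 (img_mem ok2 card2 fin2) (by norm_num : 1 < 4)
        (by norm_num : 3 < 4) ok2.searchY hkn (c := ⟨(gg (4 + a))⁻¹ * d, mem_grp.2 hd'⟩) (Subtype.ext (by
          rw [Subgroup.coe_mul, Subgroup.coe_mul, ← gg_old (by norm_num : 1 < 4), ← gg_old (by norm_num : 3 < 4)]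
          show (gg (4 + a))⁻¹ * d * gg 1 = gg 3 * ((gg (4 + a))⁻¹ * d)
          rw [mul_assoc, hdY, ← mul_assoc, ← mul_assoc]
          congr 1
          rw [inv_mul_eq_iff_eq_mul, ← mul_assoc, hc31, mul_inv_cancel_right]))
      have hmem : (4 + a) :: w ∈ cands := by
        simp only [cands, List.mem_flatMap, List.mem_map, List.mem_range]
        exact ⟨a, ha, w, hw, rfl⟩
      obtain ⟨n, hn, hne⟩ := List.getElem_of_mem hmem
      refine ⟨n, hn, ?_⟩
      rw [List.getD_eq_getElem _ _ hn, hne, W_cons, W_old (known_lt w hw), ← congrArg Subtype.val he]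
      show pr d = pr (gg (4 + a) * ((gg (4 + a))⁻¹ * d))
      rw [mul_inv_cancel_left]
    rcases hav with h | h
    · obtain ⟨n, hn, hne⟩ := key z' h hzz
      exact ⟨n, hn, hz'.symm.trans hne⟩
    · obtain ⟨n, hn, hne⟩ := key (negOne * z') (by
        rw [mul_smul, h, show negOne • (-(gg (4 + a) • V)) = - -(gg (4 + a) • V) from negOne_apply _, neg_neg]) (by
        rw [mul_assoc, hzz, ← mul_assoc, ← mul_assoc, Subgroup.mem_center_iff.1 negOne_central (gg 3)])
      refine ⟨n, hn, ?_⟩
      rw [← hz', ← hne, map_mul, pr_negOne, one_mul]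
  have hverd : ∀ (ea : ℕ) (S T : List (List ℕ)) (V' : List ℕ × ℕ × ℕ), verdX T S V' = true →
      ψ' A = A ^ ea → pr (W (S.getD 0 [])) = A ^ ea →
      pr (W (T.getD 0 [])) = A → ψ' (pr (W (T.getD 1 []))) = pr (W (S.getD 1 [])) →
      ψ' (pr (W (T.getD 2 []))) = pr (W (S.getD 2 [])) → (∀ g, 3 ≤ g → T.getD g [] = [] ∧ S.getD g [] = []) →
      False := by
    rintro ea S T ⟨w, mm, y⟩ hv hea hS0 hT0 h1 h2 hbig
    simp only [verdX, Bool.and_eq_true] at hv
    obtain ⟨hsc, hmv⟩ := hv
    have hmap : ∀ v : List ℕ, ψ' (pr (W (sub3 T v))) = pr (W (sub3 S v)) := by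
      intro v
      induction v with
      | nil => rw [sub3, sub3, W_nil, map_one, map_one]
      | cons g r ih =>
        rw [sub3, sub3, W_append, W_append, map_mul, map_mul, map_mul, ih]
        congr 1
        match g with
        | 0 => rw [hT0, hea, hS0]
        | 1 => exact h1
        | 2 => exact h2
        | g + 3 => rw [(hbig (g + 3) (by omega)).1, (hbig (g + 3) (by omega)).2, W_nil, map_one, map_one]
    have h4 := congrArg ψ' (scalarX_spec hsc)
    rw [W_repW, map_pow, map_pow, hmap, ← map_pow, ← W_repW, map_one] at h4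
    exact movesX_spec hmv h4
  obtain ⟨n, hn, hne⟩ := hinv (gg 2) hZY0
  obtain ⟨hzc, hzeq⟩ := zc_ok
  have hnz : ψ' A = A ∧ ψ' (pr (gg 2)) = pr (gg 2) := by
    rcases hm with hm1 | hm1
    · rw [hm1, pow_one] at hψ'A
      refine ⟨hψ'A, ?_⟩
      have h := List.all_eq_true.1 one_ok n (List.mem_range.2 hn)
      rw [Bool.or_eq_true, Nat.beq_eq] at h
      rcases h with h | h
      · rw [hne, h, ← W_single 2, ← eqX_spec hzeq]
      · exfalso
        refine hverd 1 _ _ _ h (by rw [hψ'A, pow_one]) ?_ ?_ ?_ ?_ ?_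
        · rw [List.getD_cons_zero, W_single, pow_one]
        · rw [List.getD_cons_zero, W_single]
        · rw [List.getD_cons_succ, List.getD_cons_zero, List.getD_cons_succ, List.getD_cons_zero, W_single]
          exact hne
        · simp [W_nil]
        · intro g hg
          obtain ⟨g', rfl⟩ : ∃ g', g = g' + 3 := ⟨g - 3, by omega⟩
          simp
    · exfalso
      rw [show (23 - 1 : ℕ) = 22 from rfl] at hm1
      rw [hm1] at hψ'A
      have h := List.all_eq_true.1 neg_ok n (List.mem_range.2 hn)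
      refine hverd 22 _ _ _ h hψ'A ?_ ?_ ?_ ?_ ?_
      · rw [List.getD_cons_zero]
        have h10 : W [10, 0] = W [] := eqX_spec inv_ok
        rw [W_cons, W_single, W_nil, mul_eq_one_iff_eq_inv] at h10
        rw [W_single, h10, map_inv, ← hAdef, inv_eq_iff_mul_eq_one, ← pow_succ', hpow]
      · rw [List.getD_cons_zero, W_single]
      · rw [List.getD_cons_succ, List.getD_cons_zero, List.getD_cons_succ, List.getD_cons_zero, W_single]
        exact hne
      · simp [W_nil]
      · intro g hg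
        obtain ⟨g', rfl⟩ : ∃ g', g = g' + 3 := ⟨g - 3, by omega⟩
        simp
  have hz1Y : z1 * gg 1 = gg 3 * z1 := by
    have h : eqX (zWord ++ [1]) (3 :: zWord) = true := by decide +kernel
    have := eqX_spec h
    rwa [W_append, W_single, W_cons] at this
  obtain ⟨n1, hn1, hne1⟩ := hinv z1 hz1Y
  obtain ⟨hz1, hz1eq⟩ := zOne_ok
  have hz : ψ' (pr z1) = pr z1 := by
    have h := List.all_eq_true.1 two_ok n1 (List.mem_range.2 hn1)
    rw [Bool.or_eq_true, Nat.beq_eq] at h
    rcases h with h | h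
    · rw [hne1, h, z1, ← eqX_spec hz1eq]
    · exfalso
      refine hverd 1 _ _ _ h (by rw [hnz.1, pow_one]) ?_ ?_ ?_ ?_ ?_
      · rw [List.getD_cons_zero, W_single, pow_one]
      · rw [List.getD_cons_zero, W_single]
      · rw [List.getD_cons_succ, List.getD_cons_zero, List.getD_cons_succ, List.getD_cons_zero, W_single]
        exact hnz.2
      · simp only [List.getD_cons_succ, List.getD_cons_zero]
        exact hne1
      · intro g hg
        obtain ⟨g', rfl⟩ : ∃ g', g = g' + 3 := ⟨g - 3, by omega⟩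
        simp
  have hone : ψ' = 1 := gen_ext hnz.1 hnz.2 hz
  rw [← mk_eq_of_conj (A ^ l * g2) φ, ← hψ', hone]

end CfsgLib.LeechOut.Co1
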