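/-
The outer automorphism group of the third Conway group is trivial.
-/
import Cfsg.Agent.LeechOut.Co3Chk
import Cfsg.Agent.LeechOut.Count
import Cfsg.Agent.Leech.Co3
import Cfsg.Prelude.Def_Spor_Conway

set_option autoImplicit false
set_option maxRecDepth 100000

namespace CfsgLib.LeechOut.Co3

open Cfsg CfsgLib.Leech CfsgLib.Leech.Co3Mult CfsgLib.Golay CfsgLib.Leech.McL MulAction

theorem fx_ok : (cert.fx.all fun f => inLeech (Val f)) = true := by decide +kernel
theorem hkY : (cert.known.all fun w => cert.eqW (w ++ [1]) ([3] ++ w)) = true := by decide +kernel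

theorem fx_val : ∀ f ∈ cert.fx, ∀ p, Val f p = vecOf uList p := by decide +kernel
theorem fx_mem : ∃ f ∈ cert.fx, ∀ p, Val f p = vecOf uList p := by decide +kernel
theorem leechV_val : ∀ p, Spor.vecV p = -vecOf uList p := by decide +kernel

theorem grp_eq : cert.Grp = Leech.Co3.G := by
  ext g
  constructor
  · intro h
    obtain ⟨f, hf, hv⟩ := fx_mem
    exact mem_stabilizer_iff.2 (h f hf U0 (funext fun p => (hv p).symm))
  · intro h f hf v hv
    rw [show v = U0 from Subtype.ext (hv.trans (funext (fx_val f hf)))]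
    exact mem_stabilizer_iff.1 h

theorem leechV_eq : (Spor.leechV : leechLattice) = -U0 := Subtype.ext (funext leechV_val)

/-- The stabiliser in the automorphism group is the third Conway group. -/
noncomputable def equivSpor : ↥Spor.Co3 ≃* Leech.Co3.G where
  toFun g := ⟨⟨g.1, (Subgroup.mem_inf.1 g.2).1⟩, by
    have h : g.1 Spor.leechV = Spor.leechV := mem_stabilizer_iff.1 (Subgroup.mem_inf.1 g.2).2
    rw [leechV_eq] at h
    let f : leechLattice →+ leechLattice := AddMonoidHom.mk' g.1 (Subgroup.mem_inf.1 g.2).1.1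
    have hn : g.1 (-U0) = -g.1 U0 := map_neg f U0
    rw [hn, neg_inj] at h
    exact mem_stabilizer_iff.2 h⟩
  invFun g := ⟨(g : Co0).1, Subgroup.mem_inf.2 ⟨(g : Co0).2, by
    have h : (g : Co0).1 U0 = U0 := mem_stabilizer_iff.1 g.2
    let f : leechLattice →+ leechLattice := AddMonoidHom.mk' (g : Co0).1 (g : Co0).2.1
    have hn : (g : Co0).1 (-U0) = -(g : Co0).1 U0 := map_neg f U0
    refine mem_stabilizer_iff.2 ?_
    show (g : Co0).1 Spor.leechV = Spor.leechV
    rw [leechV_eq, hn, h]⟩⟩
  left_inv _ := rfl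
  right_inv _ := rfl
  map_mul' _ _ := rfl

theorem card_out : Nat.card (Cfsg.Out ↥Spor.Co3) = 1 := by
  have hN : Nat.card cert.Grp = cert.N := by rw [grp_eq, Leech.Co3.card_G]; rfl
  have hfin : Finite cert.Grp := by rw [grp_eq]; exact Leech.Co3.finite_G
  rw [card_out_congr' (equivSpor.trans (MulEquiv.subgroupCongr grp_eq.symm))]
  exact card_out_one ok (fxOk_of fx_ok) hN hfin (by norm_num [cert]) (by norm_num [cert]) (by norm_num [cert]) hkY rfl

end CfsgLib.LeechOut.Co3
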