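/-
Kernel checks bounding the automorphisms of the group McL.
-/
import Cfsg.Agent.LeechOut.McLData

set_option autoImplicit false
set_option maxRecDepth 100000

namespace CfsgLib.LeechOut.McL

theorem mats_ok : cert.matsOk = true := by decide +kernel
theorem pts_ok : cert.ptsOk = true := by decide +kernel
theorem perm0_ok : cert.permOk 0 = true := by decide +kernel
theorem perm1_ok : cert.permOk 1 = true := by decide +kernel
theorem perm2_ok : cert.permOk 2 = true := by decide +kernel
theorem perm3_ok : cert.permOk 3 = true := by decide +kernel
theorem gen_ok : cert.genOk = true := by decide +kernel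
theorem rel_ok : cert.relOk = true := by decide +kernel
theorem searchA_ok :
    cert.searchOk cert.spanA 0 0 cert.p ((List.range cert.p).map fun i => List.replicate i 0) = true := by
  decide +kernel
theorem searchY_ok : cert.searchOk cert.spanY 1 3 cert.q cert.known = true := by decide +kernel
theorem verds_ok : cert.verdsOk = true := by decide +kernel

theorem ok : cert.Ok :=
  ⟨mats_ok, pts_ok, perm0_ok, perm1_ok, perm2_ok, perm3_ok, gen_ok, rel_ok, searchA_ok, searchY_ok, verds_ok⟩

end CfsgLib.LeechOut.McL
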