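/-
The outer automorphism group of the McLaughlin group has order two.
-/
import Cfsg.Agent.LeechOut.McLChk
import Cfsg.Agent.LeechOut.Count
import Cfsg.Agent.Leech.McL
import Cfsg.Prelude.Def_Spor_Conway

set_option autoImplicit false
set_option maxRecDepth 100000

namespace CfsgLib.LeechOut.McL

open Cfsg CfsgLib.Leech CfsgLib.Leech.Co3Mult CfsgLib.Golay MulAction
open CfsgLib.Leech.McL (uList)

theorem fx_ok : (cert.fx.all fun f => inLeech (Val f)) = true := by decide +kernel
theorem hkY : (cert.known.all fun w => cert.eqW (w ++ [1]) ([3] ++ w)) = true := by decide +kernel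

/-- The packed vector of norm six. -/
def uP : ℕ := cert.fx.getD 0 0
/-- The packed vector of norm four. -/
def vP : ℕ := cert.fx.getD 1 0

theorem fx_list : cert.fx = [uP, vP] := rfl
theorem fx_u : ∀ p, Val uP p = vecOf uList p ∧ Val vP p = vecOf repPair p ∧
    Spor.vecV p = -vecOf uList p ∧ Spor.vecU p = vecOf repPair p := by decide +kernel
theorem out_ok : (matOk outMat outInv && apOk outMat uP && Nat.beq (ap outMat uP) uP && apOk outMat vP) = true := by
  decide +kernel
theorem out_v : ∀ p, Val (ap outMat vP) p = Val uP p - Val vP p := by decide +kernel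
theorem carryA : carryOk cert outMat [0] [0] = true := by decide +kernel
theorem carryZ : carryOk cert outMat [2] (cert.known.getD outIdx []) = true := by decide +kernel
theorem surv_ok : ∀ i ∈ cert.surv, i = cert.zi ∨ i = outIdx := by decide +kernel
theorem known_ok : (cert.known.getD outIdx []).all (fun g => Nat.blt g 4) = true := by decide +kernel
theorem ne_ok : ((List.range cert.p).all fun i =>
    !(cert.eqW (List.replicate i 0 ++ [2]) (cert.known.getD outIdx [] ++ List.replicate i 0))) = true := by
  decide +kernel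

theorem grp_eq : cert.Grp = Leech.McL.K := by
  ext g
  constructor
  · intro h
    exact ⟨mem_stabilizer_iff.2 (h uP (by simp [fx_list]) Leech.McL.U0 (funext fun p => (fx_u p).1.symm)),
      mem_stabilizer_iff.2 (h vP (by simp [fx_list]) vStd (funext fun p => (fx_u p).2.1.symm))⟩
  · intro h f hf v hv
    rw [fx_list, List.mem_cons, List.mem_singleton] at hf
    rcases hf with rfl | rfl
    · rw [show v = Leech.McL.U0 from Subtype.ext (hv.trans (funext fun p => (fx_u p).1))]
      exact mem_stabilizer_iff.1 h.1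
    · rw [show v = vStd from Subtype.ext (hv.trans (funext fun p => (fx_u p).2.1))]
      exact mem_stabilizer_iff.1 h.2

theorem leechV_eq : (Spor.leechV : leechLattice) = -Leech.McL.U0 := Subtype.ext (funext fun p => (fx_u p).2.2.1)
theorem leechU_eq : (Spor.leechU : leechLattice) = vStd := Subtype.ext (funext fun p => (fx_u p).2.2.2)

/-- The stabiliser in the automorphism group is the McLaughlin group. -/
noncomputable def equivSpor : ↥Spor.McL ≃* Leech.McL.K where
  toFun g := ⟨⟨g.1, (Subgroup.mem_inf.1 (Subgroup.mem_inf.1 g.2).1).1⟩, by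
    have hC := Subgroup.mem_inf.1 (Subgroup.mem_inf.1 g.2).1
    have h : g.1 Spor.leechV = Spor.leechV := mem_stabilizer_iff.1 hC.2
    have h' : g.1 Spor.leechU = Spor.leechU := mem_stabilizer_iff.1 (Subgroup.mem_inf.1 g.2).2
    rw [leechV_eq] at h
    rw [leechU_eq] at h'
    let f : leechLattice →+ leechLattice := AddMonoidHom.mk' g.1 hC.1.1
    have hn : g.1 (-Leech.McL.U0) = -g.1 Leech.McL.U0 := map_neg f Leech.McL.U0
    rw [hn, neg_inj] at h
    exact ⟨mem_stabilizer_iff.2 h, mem_stabilizer_iff.2 h'⟩⟩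
  invFun g := ⟨(g : Co0).1, Subgroup.mem_inf.2 ⟨Subgroup.mem_inf.2 ⟨(g : Co0).2, by
    have h : (g : Co0).1 Leech.McL.U0 = Leech.McL.U0 := mem_stabilizer_iff.1 g.2.1
    let f : leechLattice →+ leechLattice := AddMonoidHom.mk' (g : Co0).1 (g : Co0).2.1
    have hn : (g : Co0).1 (-Leech.McL.U0) = -(g : Co0).1 Leech.McL.U0 := map_neg f Leech.McL.U0
    refine mem_stabilizer_iff.2 ?_
    show (g : Co0).1 Spor.leechV = Spor.leechV
    rw [leechV_eq, hn, h]⟩, by
    refine mem_stabilizer_iff.2 ?_
    show (g : Co0).1 Spor.leechU = Spor.leechU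
    rw [leechU_eq]
    exact mem_stabilizer_iff.1 g.2.2⟩⟩
  left_inv _ := rfl
  right_inv _ := rfl
  map_mul' _ _ := rfl

theorem exists_outer : ∃ t : Co0, (∀ (v : leechLattice) (p : GolayPt), 8 * (t • v).1 p = lin outMat v.1 p) ∧
    t • Leech.McL.U0 = Leech.McL.U0 ∧ t • vStd = Leech.McL.U0 - vStd := by
  have h := out_ok
  simp only [Bool.and_eq_true, Nat.beq_eq] at h
  obtain ⟨⟨⟨hm, hu⟩, he⟩, hv⟩ := h
  obtain ⟨t, ht⟩ := exists_aut hm
  have hM : wfM outMat = true := by
    simp only [matOk, Bool.and_eq_true] at hm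
    exact hm.1.1.1.1.1.1
  refine ⟨t, ht, Subtype.ext (funext fun p => ?_), Subtype.ext (funext fun p => ?_)⟩
  · have hw : wf uP = true := by decide +kernel
    have e := (ap_spec hM hw hu).2 p
    rw [he, show Val uP = Leech.McL.U0.1 from funext fun p => (fx_u p).1, ← ht] at e
    omega
  · have hw : wf vP = true := by decide +kernel
    have e := (ap_spec hM hw hv).2 p
    rw [show Val vP = vStd.1 from funext fun p => (fx_u p).2.1, ← ht, out_v] at e
    rw [AddSubgroup.coe_sub, Pi.sub_apply, show Leech.McL.U0.1 p = Val uP p from ((fx_u p).1).symm,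
      show vStd.1 p = Val vP p from ((fx_u p).2.1).symm]
    omega

theorem card_out : Nat.card (Cfsg.Out ↥Spor.McL) = 2 := by
  have hN : Nat.card cert.Grp = cert.N := by rw [grp_eq, Leech.McL.card_K]; rfl
  have hfin : Finite cert.Grp := by rw [grp_eq]; exact Leech.McL.finite_K
  obtain ⟨t, ht, htu, htv⟩ := exists_outer
  have hmem : ∀ x ∈ cert.Grp, t * x * t⁻¹ ∈ cert.Grp := by
    intro x hx
    rw [grp_eq] at hx ⊢
    have hU : x • Leech.McL.U0 = Leech.McL.U0 := mem_stabilizer_iff.1 hx.1
    have hV : x • vStd = vStd := mem_stabilizer_iff.1 hx.2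
    have htU : t⁻¹ • Leech.McL.U0 = Leech.McL.U0 := by rw [inv_smul_eq_iff, htu]
    refine ⟨mem_stabilizer_iff.2 (by rw [mul_smul, mul_smul, htU, hU, htu]), mem_stabilizer_iff.2 ?_⟩
    let ft : leechLattice →+ leechLattice := AddMonoidHom.mk' t.1 t.2.1
    let fx' : leechLattice →+ leechLattice := AddMonoidHom.mk' x.1 x.2.1
    have htW : t⁻¹ • vStd = Leech.McL.U0 - vStd := by
      rw [inv_smul_eq_iff, show t • (Leech.McL.U0 - vStd) = ft (Leech.McL.U0 - vStd) from rfl, map_sub,
        show ft Leech.McL.U0 = t • Leech.McL.U0 from rfl, show ft vStd = t • vStd from rfl, htu, htv]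
      abel
    rw [mul_smul, mul_smul, htW, show x • (Leech.McL.U0 - vStd) = fx' (Leech.McL.U0 - vStd) from rfl, map_sub,
      show fx' Leech.McL.U0 = x • Leech.McL.U0 from rfl, show fx' vStd = x • vStd from rfl, hU, hV,
      show t • (Leech.McL.U0 - vStd) = ft (Leech.McL.U0 - vStd) from rfl, map_sub,
      show ft Leech.McL.U0 = t • Leech.McL.U0 from rfl, show ft vStd = t • vStd from rfl, htu, htv]
    abel
  have hmap : cert.Grp.map (MulAut.conj t).toMonoidHom = cert.Grp := by
    have := hfin
    refine Subgroup.eq_of_le_of_card_ge ?_ (le_of_eq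
      (Nat.card_congr (cert.Grp.equivMapOfInjective _ (MulAut.conj t).injective).toEquiv))
    rintro _ ⟨x, hx, rfl⟩
    exact hmem x hx
  let θ : MulAut cert.Grp :=
    (cert.Grp.equivMapOfInjective _ (MulAut.conj t).injective).trans (MulEquiv.subgroupCongr hmap)
  have hT : wfM outMat = true := by decide +kernel
  have hθ : cert.Normal θ outIdx := by
    constructor
    · refine Subtype.ext ?_
      have := carry_spec ok hT ht carryA
      rwa [wd_single] at this
    · refine Subtype.ext ?_
      have := carry_spec ok hT ht carryZ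
      rwa [wd_single] at this
  rw [card_out_congr' (equivSpor.trans (MulEquiv.subgroupCongr grp_eq.symm))]
  exact card_out_two ok (fxOk_of fx_ok) hN hfin (by norm_num [cert]) (by norm_num [cert]) (by norm_num [cert]) hkY
    surv_ok hθ known_ok ne_ok

end CfsgLib.LeechOut.McL
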